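import Cfsg.Agent.Characters.Core
import Cfsg.Agent.H662.LiftRep
import Cfsg.Agent.Blocks.CyclicAssembly
import Cfsg.Agent.Blocks.ExistsModular

/-!
# Small-degree complex representations (for S4950)

* `exists_irr` : a nontrivial complex representation has a nontrivial irreducible constituent;
* `BigDeg T d` : all nontrivial complex representations of `T` have degree `> d`; `bigDeg_of_irr`;
* `exists_lift` : a faithful representation of a `p'`-group over a finite field of characteristic `p` gives a
  faithful complex representation of no larger dimension;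
* `exists_ind` : induction from a subgroup.
-/

set_option autoImplicit false

open Module Cfsg

universe u

namespace Cfsg.Agent.H324.Hall

/-! ### Irreducible constituents -/

section irr

variable {Γ : Type*} [Group Γ] [Finite Γ] {V : Type*} [AddCommGroup V] [Module ℂ V] [FiniteDimensional ℂ V]

/-- A nontrivial complex representation of a finite group has a nontrivial irreducible constituent. -/
theorem exists_irr (ρ : Representation ℂ Γ V) (hρ : ρ ≠ 1) :
    ∃ (k : ℕ) (τ : Representation ℂ Γ (Fin k → ℂ)), τ.IsIrreducible ∧ τ ≠ 1 ∧ k ≤ finrank ℂ V := by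
  classical
  have : Fintype Γ := Fintype.ofFinite Γ
  have hc : (Fintype.card Γ : ℂ) ≠ 0 := Nat.cast_ne_zero.2 Fintype.card_ne_zero
  let π : V →ₗ[ℂ] V := (Fintype.card Γ : ℂ)⁻¹ • ∑ g, ρ g
  have hπ : ∀ h : Γ, π * ρ h = π := by
    intro h
    simp only [π, smul_mul_assoc, Finset.sum_mul, ← map_mul]
    congr 1
    exact Fintype.sum_equiv (Equiv.mulRight h) _ _ fun g => rfl
  have hπ' : ∀ h : Γ, ρ h * π = π := by
    intro h
    simp only [π, mul_smul_comm, Finset.mul_sum, ← map_mul]
    congr 1
    exact Fintype.sum_equiv (Equiv.mulLeft h) _ _ fun g => rfl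
  let W : Subrepresentation ρ :=
    { toSubmodule := LinearMap.ker π
      apply_mem_toSubmodule := fun g v hv => by
        rw [LinearMap.mem_ker] at hv ⊢
        have := LinearMap.congr_fun (hπ g) v
        rw [Module.End.mul_apply] at this
        rw [this, hv] }
  have hW : W.toSubmodule ≠ ⊥ := by
    intro h
    apply hρ
    have hinj : Function.Injective π := LinearMap.ker_eq_bot.1 h
    ext g v
    have h1 : π (ρ g v) = π v := by
      have := LinearMap.congr_fun (hπ g) v
      rwa [Module.End.mul_apply] at this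
    exact hinj h1
  have hnt : Nontrivial W.toSubmodule := Submodule.nontrivial_iff_ne_bot.2 hW
  obtain ⟨U, hU⟩ := Cfsg.Agent.Characters.Core.exists_irreducible_sub W.toRepresentation
  let b := finBasis ℂ U.toSubmodule
  refine ⟨finrank ℂ U.toSubmodule, Cfsg.Agent.Characters.Core.transportRep b.equivFun U.toRepresentation,
    Cfsg.Agent.Characters.Core.isIrreducible_transportRep _ hU, ?_, ?_⟩
  · intro h1
    have hUn : Nontrivial U.toSubmodule := by
      by_contra hcon
      rw [not_nontrivial_iff_subsingleton] at hcon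
      have h3 : (⊥ : Subrepresentation U.toRepresentation) ≠ ⊤ := bot_ne_top
      apply h3
      apply Subrepresentation.toSubmodule_injective
      exact Subsingleton.elim _ _
    obtain ⟨u, hu⟩ := exists_ne (0 : U.toSubmodule)
    have h2 : ∀ g : Γ, U.toRepresentation g u = u := by
      intro g
      have h3 := LinearMap.congr_fun (DFunLike.congr_fun h1 g) (b.equivFun u)
      rw [Cfsg.Agent.Characters.Core.transportRep_apply, LinearEquiv.conj_apply] at h3
      simp only [LinearMap.comp_apply, LinearEquiv.coe_coe, LinearEquiv.symm_apply_apply,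
        MonoidHom.one_apply, Module.End.one_apply] at h3
      exact b.equivFun.injective h3
    have h4 : ∀ g : Γ, ρ g ((u : W.toSubmodule) : V) = ((u : W.toSubmodule) : V) := by
      intro g
      have h5 := congrArg (fun x : U.toSubmodule => ((x : W.toSubmodule) : V)) (h2 g)
      exact h5
    have h6 : π ((u : W.toSubmodule) : V) = ((u : W.toSubmodule) : V) := by
      simp only [π, LinearMap.smul_apply, LinearMap.sum_apply]
      rw [Finset.sum_congr rfl fun g _ => h4 g, Finset.sum_const, Finset.card_univ, ← Nat.cast_smul_eq_nsmul ℂ,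
        smul_smul, inv_mul_cancel₀ hc, one_smul]
    have h7 : π ((u : W.toSubmodule) : V) = 0 := (u : W.toSubmodule).2
    apply hu
    rw [h7] at h6
    exact Subtype.ext (Subtype.ext h6.symm)
  · exact (Submodule.finrank_le _).trans (Submodule.finrank_le _)

end irr

/-- All nontrivial complex representations of `T` have degree greater than `d`. -/
def BigDeg (T : Type*) [Group T] (d : ℕ) : Prop :=
  ∀ (m : ℕ) (σ : T →* Matrix.GeneralLinearGroup (Fin m) ℂ), σ ≠ 1 → d < m

theorem BigDeg.mono {T : Type*} [Group T] {d e : ℕ} (h : BigDeg T d) (hed : e ≤ d) : BigDeg T e :=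
  fun m σ hσ => lt_of_le_of_lt hed (h m σ hσ)

/-- the representation on column vectors -/
noncomputable def repOf {T K : Type*} [Group T] [Field K] {m : ℕ} (σ : T →* Matrix.GeneralLinearGroup (Fin m) K) :
    Representation K T (Fin m → K) where
  toFun g := Matrix.toLin' (σ g : Matrix (Fin m) (Fin m) K)
  map_one' := by rw [map_one, Units.val_one, Matrix.toLin'_one]; rfl
  map_mul' g h := by
    rw [map_mul, Units.val_mul, Matrix.toLin'_mul]; rfl

theorem repOf_eq_one {T K : Type*} [Group T] [Field K] {m : ℕ} (σ : T →* Matrix.GeneralLinearGroup (Fin m) K)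
    (g : T) : repOf σ g = 1 ↔ σ g = 1 := by
  constructor
  · intro h
    apply Units.ext
    apply Matrix.toLin'.injective
    rw [Units.val_one, Matrix.toLin'_one]
    exact h
  · intro h
    show Matrix.toLin' (σ g : Matrix (Fin m) (Fin m) K) = 1
    rw [h, Units.val_one, Matrix.toLin'_one]
    rfl

theorem repOf_injective {T K : Type*} [Group T] [Field K] {m : ℕ} {σ : T →* Matrix.GeneralLinearGroup (Fin m) K}
    (h : Function.Injective σ) : Function.Injective (repOf σ) := by
  intro a b hab
  apply h
  apply Units.ext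
  exact Matrix.toLin'.injective hab

/-- a representation gives a homomorphism to matrices -/
theorem exists_gl {A : Type*} [Group A] {K : Type*} [Field K] {V : Type*} [AddCommGroup V] [Module K V]
    [FiniteDimensional K V] (ρ : Representation K A V) :
    ∃ f : A →* Matrix.GeneralLinearGroup (Fin (finrank K V)) K, ∀ a, f a = 1 ↔ ρ a = 1 := by
  let b := finBasis K V
  let e : Module.End K V →* Matrix (Fin (finrank K V)) (Fin (finrank K V)) K :=
    (LinearMap.toMatrixAlgEquiv b : (V →ₗ[K] V) ≃ₐ[K] _).toAlgHom.toMonoidHom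
  refine ⟨(e.comp ρ).toHomUnits, fun a => ?_⟩
  rw [Units.ext_iff, MonoidHom.coe_toHomUnits, Units.val_one]
  constructor
  · intro h
    have h1 : (LinearMap.toMatrixAlgEquiv b) (ρ a) = (LinearMap.toMatrixAlgEquiv b) 1 := by
      rw [map_one]; exact h
    exact (LinearMap.toMatrixAlgEquiv b).injective h1
  · intro h
    show (LinearMap.toMatrixAlgEquiv b) (ρ a) = 1
    rw [h, map_one]

theorem perfect_eq_one {Γ C : Type*} [Group Γ] [CommGroup C] (hΓ : commutator Γ = ⊤) (f : Γ →* C) : f = 1 := by
  have h : commutator Γ ≤ f.ker := by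
    rw [commutator_def, Subgroup.commutator_le]
    intro a _ b _
    rw [MonoidHom.mem_ker, map_commutatorElement]
    exact commutatorElement_eq_one_iff_mul_comm.2 (mul_comm _ _)
  ext g
  have : g ∈ f.ker := h (by rw [hΓ]; trivial)
  exact this

/-- A perfect group acts trivially on spaces of dimension at most one. -/
theorem eq_one_of_finrank_le {Γ : Type*} [Group Γ] (hΓ : commutator Γ = ⊤) {V : Type*} [AddCommGroup V] [Module ℂ V]
    [FiniteDimensional ℂ V] (ρ : Representation ℂ Γ V) (h : finrank ℂ V ≤ 1) : ρ = 1 := by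
  have hdet : ∀ T : V →ₗ[ℂ] V, finrank ℂ V = 1 → T = (LinearMap.det T) • (1 : V →ₗ[ℂ] V) := by
    intro T h1
    obtain ⟨v, hv, hv'⟩ := finrank_eq_one_iff'.1 h1
    obtain ⟨c, hc⟩ := hv' (T v)
    have hT : T = c • (1 : V →ₗ[ℂ] V) := by
      ext w
      obtain ⟨d, rfl⟩ := hv' w
      rw [map_smul, ← hc, LinearMap.smul_apply, Module.End.one_apply, smul_comm]
    rw [hT, LinearMap.det_smul, h1, pow_one]
    show c • (1 : V →ₗ[ℂ] V) = (c * LinearMap.det (LinearMap.id : V →ₗ[ℂ] V)) • (1 : V →ₗ[ℂ] V)
    rw [LinearMap.det_id, mul_one]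
  rcases Nat.lt_or_ge (finrank ℂ V) 1 with h0 | h0
  · have h1 : finrank ℂ V = 0 := by omega
    have : Subsingleton V := finrank_zero_iff.1 h1
    ext g v
    exact Subsingleton.elim _ _
  · have h1 : finrank ℂ V = 1 := le_antisymm h h0
    let f : Γ →* ℂˣ := ((LinearMap.det : (V →ₗ[ℂ] V) →* ℂ).comp ρ).toHomUnits
    have hf := perfect_eq_one hΓ f
    ext g v
    have h2 : LinearMap.det (ρ g) = 1 := by
      have := congrArg Units.val (DFunLike.congr_fun hf g)
      simpa [f] using this
    rw [hdet (ρ g) h1, h2, one_smul]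
    rfl

/-- The criterion from the irreducible representations of a perfect group `Γ` mapping nontrivially to `T`. -/
theorem bigDeg_of_irr {Γ T : Type*} [Group Γ] [Finite Γ] [Group T] [IsSimpleGroup T] (hΓ : commutator Γ = ⊤)
    (φ : Γ →* T) (hφ : ∃ g, φ g ≠ 1) {d : ℕ}
    (h : ∀ (k : ℕ) (ρ : Representation ℂ Γ (Fin k → ℂ)), ρ.IsIrreducible → 2 ≤ k → d < k) : BigDeg T d := by
  intro m σ hσ
  have hker : σ.ker = ⊥ := by
    rcases (inferInstance : σ.ker.Normal).eq_bot_or_eq_top with h1 | h1
    · exact h1
    · exfalso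
      apply hσ
      ext1 t
      have : t ∈ σ.ker := by rw [h1]; trivial
      exact this
  have hinj : Function.Injective σ := (MonoidHom.ker_eq_bot_iff σ).1 hker
  obtain ⟨g, hg⟩ := hφ
  have hne : repOf (σ.comp φ) ≠ 1 := by
    intro h1
    have h2 : repOf (σ.comp φ) g = 1 := by rw [h1]; rfl
    rw [repOf_eq_one] at h2
    exact hg (hinj (by rw [map_one]; exact h2))
  obtain ⟨k, τ, hτ, hτ1, hk⟩ := exists_irr (repOf (σ.comp φ)) hne
  have hkm : k ≤ m := by simpa using hk
  have hk2 : 2 ≤ k := by
    by_contra hcon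
    exact hτ1 (eq_one_of_finrank_le hΓ τ (by rw [Module.finrank_fin_fun]; omega))
  exact lt_of_lt_of_le (h k τ hτ hk2) hkm

/-! ### Lifting -/

/-- **Lifting.** A faithful representation of a `p'`-group over a finite field of characteristic `p` gives a faithful
complex representation of no larger dimension. -/
theorem exists_lift {Y : Type u} [Group Y] [Finite Y] {p : ℕ} (hp : p.Prime) (hY : ¬ p ∣ Nat.card Y)
    {F : Type*} [Field F] [Finite F] [hF : CharP F p] {n : ℕ} (f : Y →* Matrix.GeneralLinearGroup (Fin n) F)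
    (hf : Function.Injective f) :
    ∃ (W : Type u) (_ : AddCommGroup W) (_ : Module ℂ W) (_ : FiniteDimensional ℂ W) (τ : Representation ℂ Y W),
      Function.Injective τ ∧ finrank ℂ W ≤ n := by
  obtain ⟨M, hM⟩ := Cfsg.Agent.Blocks.ExistsModular.exists_isPModular hp
  have hmax : M.IsMaximal := Cfsg.Agent.Blocks.Local.isMaximal_of_isPModular hM
  have hprime : M.IsPrime := hmax.isPrime
  have hchar : CharP (Cfsg.Agent.Blocks.Local.ResField M) p := Cfsg.Agent.Blocks.Local.charP_resField hM
  have halg : IsAlgClosed (Cfsg.Agent.Blocks.Local.ResField M) :=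
    Cfsg.Agent.Blocks.CyclicAssembly.isAlgClosed_resField
  have : Fact p.Prime := ⟨hp⟩
  let _ : Algebra (ZMod p) F := ZMod.algebra F p
  let _ : Algebra (ZMod p) (Cfsg.Agent.Blocks.Local.ResField M) := ZMod.algebra _ p
  have hfin : Module.Finite (ZMod p) F := Module.Finite.of_finite
  have halgF : Algebra.IsAlgebraic (ZMod p) F := Algebra.IsAlgebraic.of_finite _ _
  let i : F →ₐ[ZMod p] Cfsg.Agent.Blocks.Local.ResField M := IsAlgClosed.lift
  let f' : Y →* Matrix.GeneralLinearGroup (Fin n) (Cfsg.Agent.Blocks.Local.ResField M) :=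
    (Matrix.GeneralLinearGroup.map i.toRingHom).comp f
  have hf' : Function.Injective f' := by
    intro a b hab
    apply hf
    apply Units.ext
    ext r s
    have h1 := congrArg (fun g : Matrix.GeneralLinearGroup (Fin n) (Cfsg.Agent.Blocks.Local.ResField M) =>
      (g : Matrix (Fin n) (Fin n) (Cfsg.Agent.Blocks.Local.ResField M)) r s) hab
    have h2 : i ((f a : Matrix (Fin n) (Fin n) F) r s) = i ((f b : Matrix (Fin n) (Fin n) F) r s) := h1
    exact i.toRingHom.injective h2
  obtain ⟨W, τ, hτ, hW⟩ := Cfsg.Agent.H662.LiftRep.exists_complex_rep hM hY (repOf f') (repOf_injective hf')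
  refine ⟨W, inferInstance, inferInstance, inferInstance, τ, hτ, ?_⟩
  simpa using hW

/-! ### Induction -/

section ind

variable {A : Type*} [Group A] (B : Subgroup A) {W : Type*} [AddCommGroup W] [Module ℂ W]
  (τ : Representation ℂ B W)

/-- the space of the induced representation -/
def indSpace : Submodule ℂ (A → W) where
  carrier := {f | ∀ (b : B) (a : A), f (b * a) = τ b (f a)}
  zero_mem' := fun b a => by simp
  add_mem' := fun {f g} hf hg b a => by
    show f (b * a) + g (b * a) = τ b (f a + g a)
    rw [hf, hg, map_add]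
  smul_mem' := fun c f hf b a => by
    show c • f (b * a) = τ b (c • f a)
    rw [hf, map_smul]

/-- the induced representation -/
def indRep : Representation ℂ A (indSpace B τ) where
  toFun x :=
    { toFun := fun f => ⟨fun a => f.1 (a * x), fun b a => by
        show f.1 (b * a * x) = _
        rw [mul_assoc]; exact f.2 b (a * x)⟩
      map_add' := fun _ _ => rfl
      map_smul' := fun _ _ => rfl }
  map_one' := by
    ext f a
    show f.1 (a * 1) = f.1 a
    rw [mul_one]
  map_mul' x y := by
    ext f a
    show f.1 (a * (x * y)) = f.1 (a * x * y)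
    rw [mul_assoc]

variable [Finite A] [FiniteDimensional ℂ W]

instance instFiniteIndSpace : FiniteDimensional ℂ (indSpace B τ) := by
  have : Fintype A := Fintype.ofFinite A
  infer_instance

theorem finrank_indSpace_le : finrank ℂ (indSpace B τ) ≤ B.index * finrank ℂ W := by
  classical
  have : Fintype (Quotient (QuotientGroup.rightRel B)) := Fintype.ofFinite _
  let L : indSpace B τ →ₗ[ℂ] (Quotient (QuotientGroup.rightRel B) → W) :=
    { toFun := fun f c => f.1 c.out
      map_add' := fun _ _ => rfl
      map_smul' := fun _ _ => rfl }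
  have hL : Function.Injective L := by
    intro f g hfg
    apply Subtype.ext
    funext a
    have h1 := congrFun hfg (Quotient.mk'' a)
    have h2 : f.1 (Quotient.mk'' a : Quotient (QuotientGroup.rightRel B)).out =
      g.1 (Quotient.mk'' a : Quotient (QuotientGroup.rightRel B)).out := h1
    have h3 : (QuotientGroup.rightRel B) (Quotient.mk'' a : Quotient (QuotientGroup.rightRel B)).out a :=
      Quotient.exact (Quotient.out_eq' (Quotient.mk'' a : Quotient (QuotientGroup.rightRel B)))
    rw [QuotientGroup.rightRel_apply] at h3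
    have h4 : a = ((⟨a * ((Quotient.mk'' a : Quotient (QuotientGroup.rightRel B)).out)⁻¹, h3⟩ : B) : A) *
      (Quotient.mk'' a : Quotient (QuotientGroup.rightRel B)).out := by
      show a = a * _⁻¹ * _
      rw [inv_mul_cancel_right]
    have h5 := f.2 (⟨a * ((Quotient.mk'' a : Quotient (QuotientGroup.rightRel B)).out)⁻¹, h3⟩ : B)
      (Quotient.mk'' a : Quotient (QuotientGroup.rightRel B)).out
    have h6 := g.2 (⟨a * ((Quotient.mk'' a : Quotient (QuotientGroup.rightRel B)).out)⁻¹, h3⟩ : B)
      (Quotient.mk'' a : Quotient (QuotientGroup.rightRel B)).out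
    rw [← h4] at h5 h6
    rw [h5, h6, h2]
  have h1 := LinearMap.finrank_le_finrank_of_injective hL
  rw [Module.finrank_pi_fintype, Finset.sum_const, Finset.card_univ, smul_eq_mul] at h1
  have h2 : Fintype.card (Quotient (QuotientGroup.rightRel B)) = B.index := by
    rw [← Nat.card_eq_fintype_card, Subgroup.index]
    exact Nat.card_congr (QuotientGroup.quotientRightRelEquivQuotientLeftRel B)
  rwa [h2] at h1

omit [Finite A] [FiniteDimensional ℂ W] in
/-- elements of `B` acting nontrivially act nontrivially on the induced representation -/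
theorem indRep_ne_one {b : B} (hb : τ b ≠ 1) : indRep B τ (b : A) ≠ 1 := by
  classical
  intro h
  apply hb
  ext w
  let f : indSpace B τ := ⟨fun a => if ha : a ∈ B then τ ⟨a, ha⟩ w else 0, fun c a => by
    by_cases ha : a ∈ B
    · have hca : (c : A) * a ∈ B := B.mul_mem c.2 ha
      show (if ha : (c : A) * a ∈ B then τ ⟨(c : A) * a, ha⟩ w else 0) = τ c (if ha : a ∈ B then τ ⟨a, ha⟩ w else 0)
      rw [dif_pos hca, dif_pos ha]
      have : (⟨(c : A) * a, hca⟩ : B) = c * ⟨a, ha⟩ := rfl
      rw [this, map_mul]; rfl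
    · have hca : (c : A) * a ∉ B := fun h => ha ((B.mul_mem_cancel_left c.2).1 h)
      show (if ha : (c : A) * a ∈ B then τ ⟨(c : A) * a, ha⟩ w else 0) = τ c (if ha : a ∈ B then τ ⟨a, ha⟩ w else 0)
      rw [dif_neg hca, dif_neg ha, map_zero]⟩
  have h1 := congrArg Subtype.val (LinearMap.congr_fun h f)
  have h2 := congrFun h1 1
  have h3 : f.1 (1 * (b : A)) = f.1 1 := h2
  rw [one_mul] at h3
  have h4 : f.1 (b : A) = τ b w := by
    show (if ha : (b : A) ∈ B then τ ⟨b, ha⟩ w else 0) = _
    rw [dif_pos b.2]
  have h5 : f.1 1 = w := by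
    show (if ha : (1 : A) ∈ B then τ ⟨1, ha⟩ w else 0) = _
    rw [dif_pos B.one_mem]
    have : (⟨1, B.one_mem⟩ : B) = 1 := rfl
    rw [this, map_one]; rfl
  rw [h4, h5] at h3
  exact h3

end ind

end Cfsg.Agent.H324.Hall
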