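import Cfsg.Agent.H189.AltTwo

/-!
# A nontrivial complex representation of `A₇` has degree at least six
-/

set_option autoImplicit false

namespace Cfsg.Agent.H324.Hall.AltSeven

open Equiv Equiv.Perm Module
open Cfsg.Agent.H189 Cfsg.Agent.H189.Cyc Cfsg.Agent.H189.Wt Cfsg.Agent.H189.NatMod Cfsg.Agent.H189.Emb
  Cfsg.Agent.H189.AltOdd Cfsg.Agent.H189.AltOddDim Cfsg.Agent.H189.Eig Cfsg.Agent.H189.AltTwo

universe u v

variable {k : Type u} {V : Type v} [Field k] [AddCommGroup V] [Module k V]

/-- a subspace containing the three eigenspaces of an element of order three is everything -/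
theorem eq_top_of_eig (h3 : (3 : k) ≠ 0) {ω : k} (hω : ω ^ 3 = 1) (hω1 : ω ≠ 1) (t : End k V)
    (ht : ∀ v, t (t (t v)) = v) (U : Submodule k V) (h0 : t.eigenspace 1 ≤ U) (h1 : t.eigenspace ω ≤ U)
    (h2 : t.eigenspace (ω ^ 2) ≤ U) : U = ⊤ := by
  obtain ⟨q1, q2, q3, q0⟩ := cube_facts hω hω1
  rw [eq_top_iff]
  intro x _
  have P0 : x + t x + t (t x) ∈ t.eigenspace 1 := by
    rw [End.mem_eigenspace_iff, map_add, map_add, ht, one_smul]; abel
  have P1 : x + ω ^ 2 • t x + ω • t (t x) ∈ t.eigenspace ω := by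
    rw [End.mem_eigenspace_iff, map_add, map_add, map_smul, map_smul, ht, smul_add, smul_add, smul_smul, smul_smul]
    have e1 : ω * ω ^ 2 = 1 := by rw [← hω]; ring
    have e2 : ω * ω = ω ^ 2 := (pow_two ω).symm
    rw [e1, e2, one_smul]; abel
  have P2 : x + ω • t x + ω ^ 2 • t (t x) ∈ t.eigenspace (ω ^ 2) := by
    rw [End.mem_eigenspace_iff, map_add, map_add, map_smul, map_smul, ht, smul_add, smul_add, smul_smul, smul_smul]
    have e1 : ω ^ 2 * ω = 1 := by rw [← hω]; ring
    have e2 : ω ^ 2 * ω ^ 2 = ω := by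
      have : ω ^ 2 * ω ^ 2 = ω ^ 3 * ω := by ring
      rw [this, hω, one_mul]
    rw [e1, e2, one_smul]; abel
  have hsum : (3 : k) • x = (x + t x + t (t x)) + (x + ω ^ 2 • t x + ω • t (t x)) +
      (x + ω • t x + ω ^ 2 • t (t x)) := by
    have e3 : (3 : k) • x = x + x + x := by
      have : (3 : k) = 1 + 1 + 1 := by norm_num
      rw [this, add_smul, add_smul, one_smul]
    have e4 : ∀ y : V, y + ω • y + ω ^ 2 • y = 0 := by
      intro y
      have : y + ω • y + ω ^ 2 • y = (1 + ω + ω ^ 2) • y := by rw [add_smul, add_smul, one_smul]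
      rw [this, q3, zero_smul]
    have e5 := e4 (t x)
    have e6 := e4 (t (t x))
    have e7 : (x + t x + t (t x)) + (x + ω ^ 2 • t x + ω • t (t x)) + (x + ω • t x + ω ^ 2 • t (t x)) =
        (x + x + x) + (t x + ω • t x + ω ^ 2 • t x) + (t (t x) + ω • t (t x) + ω ^ 2 • t (t x)) := by abel
    rw [e7, e5, e6, e3, add_zero, add_zero]
  have e6 : (3 : k) • x ∈ U := by
    rw [hsum]
    exact add_mem (add_mem (h0 P0) (h1 P1)) (h2 P2)
  have e7 := U.smul_mem (3 : k)⁻¹ e6
  rwa [smul_smul, inv_mul_cancel₀ h3, one_smul] at e7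

/-- `A₄` on a space of dimension at most two: the four-group acts trivially -/
theorem klein_triv [FiniteDimensional k V] (h2 : (2 : k) ≠ 0) (S : alternatingGroup (Fin 4) →* End k V)
    (U : Submodule k V) (hU : ∀ g, ∀ v ∈ U, S g v ∈ U) (hb : finrank k U < 3) : ∀ v ∈ U, S Z1 v = v := by
  by_contra hcon
  push Not at hcon
  obtain ⟨v, hv, hne⟩ := hcon
  have h1 : subrep S U hU Z1 ≠ 1 := by
    intro h
    apply hne
    have h1 := congrArg (fun f : End k U => ((f ⟨v, hv⟩ : U) : V)) h
    simpa using h1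
  have h3 := W1_pos h2 (subrep S U hU) h1
  have h4 := (four_dim h2 (subrep S U hU)).1
  omega

/-- the even permutation with `(0 1 2) ↦ (3 4 5)`, `(3 4 5) ↦ (0 1 2)⁻¹` -/
def g6 : alternatingGroup (Fin 6) :=
  ⟨swap 0 3 * swap 3 1 * swap 1 4 * swap 2 5, by rw [mem_alternatingGroup]; decide⟩

theorem fixed_of_dim_le_one [FiniteDimensional k V] {ω : k} (hω : ω ^ 3 = 1) (hω1 : ω ≠ 1)
    (R : alternatingGroup (Fin 6) →* End k V)
    (hb : finrank k ((R (cc 0 1 2 (by decide) (by decide))).eigenspace ω) ≤ 1) :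
    ∀ v ∈ (R (cc 0 1 2 (by decide) (by decide))).eigenspace ω, R (cc 3 4 5 (by decide) (by decide)) v = v := by
  have hR : ∀ x y v, R (x * y) v = R x (R y v) := fun x y v => mul_apply' R x y v
  obtain ⟨q1, q2, q3, q0⟩ := cube_facts hω hω1
  set t : alternatingGroup (Fin 6) := cc 0 1 2 (by decide) (by decide) with ht
  set s : alternatingGroup (Fin 6) := cc 3 4 5 (by decide) (by decide) with hs
  have r1 : t * s = s * t := by decide
  have r2 : g6 * t = s * g6 := by decide
  have r3 : t * g6 * s = g6 := by decide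
  have r4 : s * s * s = 1 := by decide
  have r5 : t * t * t = 1 := by decide
  intro v hv
  by_contra hne
  have hv0 : v ≠ 0 := by
    rintro rfl
    exact hne (map_zero _)
  have htv : R t v = ω • v := End.mem_eigenspace_iff.1 hv
  have hfr : finrank k ((R t).eigenspace ω) = 1 := by
    refine le_antisymm hb ?_
    rw [Nat.one_le_iff_ne_zero, Ne, Submodule.finrank_eq_zero]
    intro h0
    rw [h0] at hv
    exact hv0 ((Submodule.mem_bot k).1 hv)
  -- everything in the eigenspace is a multiple of `v`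
  have hspan : ∀ w, R t w = ω • w → ∃ c : k, c • v = w := by
    intro w hw
    have h1 := (finrank_eq_one_iff_of_nonzero' (⟨v, hv⟩ : (R t).eigenspace ω)
      (fun h => hv0 (congrArg Subtype.val h))).1 hfr ⟨w, End.mem_eigenspace_iff.2 hw⟩
    obtain ⟨c, hc⟩ := h1
    exact ⟨c, congrArg Subtype.val hc⟩
  obtain ⟨lam, hlam⟩ := hspan (R s v) (by rw [← hR, r1, hR, htv, map_smul])
  have hlam : R s v = lam • v := hlam.symm
  have hs3 : (R s) ^ 3 = 1 := by
    rw [← map_pow]
    have : s ^ 3 = 1 := by decide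
    rw [this, map_one]
  have hl3 : lam ^ 3 = 1 := pow_eq_one_of_eig hs3 hv0 hlam
  have hl1 : lam ≠ 1 := by
    rintro rfl
    exact hne (by rw [hlam, one_smul])
  have hw0 : R g6 v ≠ 0 := by
    intro h
    apply hv0
    have : R (g6⁻¹ * g6) v = 0 := by rw [hR, h, map_zero]
    rwa [inv_mul_cancel, map_one, End.one_apply] at this
  have hsw : R s (R g6 v) = ω • R g6 v := by rw [← hR, ← r2, hR, htv, map_smul]
  have htw : lam • R t (R g6 v) = R g6 v := by
    have : R (t * g6 * s) v = R g6 v := by rw [r3]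
    rwa [hR, hR, hlam, map_smul, map_smul] at this
  rcases cube_cases hω hl3 hω1 with h | h | h
  · exact hl1 h
  · -- `lam = ω`
    subst h
    set z : alternatingGroup (Fin 6) := dt 0 1 3 4 (by decide) (by decide) with hz
    have r6 : t * z * t = z := by decide
    have r7 : s * z * s = z := by decide
    have hww : R z (R g6 v) ≠ 0 := by
      intro h
      apply hw0
      have : R (z⁻¹ * z) (R g6 v) = 0 := by rw [hR, h, map_zero]
      rwa [inv_mul_cancel, map_one, End.one_apply] at this
    have e3 : lam ^ 2 * lam = 1 := by rw [← pow_succ, hω]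
    have e3' : lam * lam ^ 2 = 1 := by rw [← pow_succ', hω]
    have h1 : R t (R g6 v) = lam ^ 2 • R g6 v := by
      have h2 : lam ^ 2 • (lam • R t (R g6 v)) = R t (R g6 v) := by rw [smul_smul, e3, one_smul]
      rw [← h2, htw]
    have h2 : R t (R z (R g6 v)) = lam • R z (R g6 v) := by
      have h3 : R (t * z * t) (R g6 v) = R z (R g6 v) := by rw [r6]
      rw [hR, hR, h1, map_smul, map_smul] at h3
      have h4 : lam • (lam ^ 2 • R t (R z (R g6 v))) = R t (R z (R g6 v)) := by rw [smul_smul, e3', one_smul]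
      rw [← h4, h3]
    have h5 : R s (R z (R g6 v)) = lam ^ 2 • R z (R g6 v) := by
      have h3 : R (s * z * s) (R g6 v) = R z (R g6 v) := by rw [r7]
      rw [hR, hR, hsw, map_smul, map_smul] at h3
      have h4 : lam ^ 2 • (lam • R s (R z (R g6 v))) = R s (R z (R g6 v)) := by rw [smul_smul, e3, one_smul]
      rw [← h4, h3]
    obtain ⟨c, hc⟩ := hspan _ h2
    have h6 : R s (R z (R g6 v)) = lam • R z (R g6 v) := by
      rw [← hc, map_smul, hlam, smul_comm]
    rw [h5] at h6
    have h3 : (lam ^ 2 - lam) • R z (R g6 v) = 0 := by rw [sub_smul, h6, sub_self]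
    rcases smul_eq_zero.1 h3 with h4 | h4
    · exact q2 (sub_eq_zero.1 h4)
    · exact hww h4
  · -- `lam = ω ^ 2`
    subst h
    have h1 : R t (R g6 v) = ω • R g6 v := by
      have h2 : ω • (ω ^ 2 • R t (R g6 v)) = R t (R g6 v) := by
        rw [smul_smul, ← pow_succ', hω, one_smul]
      rw [← h2, htw]
    obtain ⟨c, hc⟩ := hspan _ h1
    have h2 : R s (R g6 v) = ω ^ 2 • R g6 v := by
      rw [← hc, map_smul, hlam, smul_comm]
    rw [hsw] at h2
    have h3 : (ω - ω ^ 2) • R g6 v = 0 := by rw [sub_smul, h2, sub_self]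
    rcases smul_eq_zero.1 h3 with h4 | h4
    · exact q2 (sub_eq_zero.1 h4).symm
    · exact hw0 h4

/-- **Degree seven.** -/
theorem low_seven_six [IsAlgClosed k] [CharZero k] : Low.{u, v} k 7 6 := by
  intro V _ _ _ ρ hne
  by_contra hlt
  rw [not_le] at hlt
  have h2 : (2 : k) ≠ 0 := by norm_num
  have h3 : (3 : k) ≠ 0 := by norm_num
  obtain ⟨ω, hω, hω1⟩ := exists_omega (k := k) h3
  obtain ⟨q1, q2, q3, q0⟩ := cube_facts hω hω1
  have hinj := rep_injective (by rw [Fintype.card_fin]; omega) ρ hne
  have hcard : Fintype.card (Fin 7) = 7 := Fintype.card_fin 7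
  -- the dimension of the eigenspaces
  have hdim : ∀ (a b c : Fin 7) (hab : a ≠ b) (hbc : b ≠ c), a ≠ c →
      finrank k ((ρ (cc a b c hab hbc)).eigenspace ω) ≤ 1 := by
    intro a b c hab hbc hac
    by_contra hcon
    rw [not_le] at hcon
    have h4 := two_mul_le (by omega) ρ hω hω1 hab hac hbc
    have h5 := eig_eq (by omega) ρ hω hab hac hbc
    obtain ⟨f, hf⟩ := exists_extend (show 3 ≤ 3 by norm_num) (by omega) ![a, b, c] (inj3 hab hac hbc)
    obtain ⟨h, hd, hcov⟩ := exists_compl (j := 4) f (by omega)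
    have hfa : f 0 = a := hf 0
    have hfb : f 1 = b := hf 1
    have hfc : f 2 = c := hf 2
    let R := ρ.comp (emb f)
    let S := ρ.comp (emb h)
    have hcomm : ∀ x y v, R x (S y v) = S y (R x v) := by
      intro x y v
      show ρ (emb f x) (ρ (emb h y) v) = ρ (emb h y) (ρ (emb f x) v)
      rw [← mul_apply', emb_comm f h hd, mul_apply']
    have hRt : R (cc 0 1 2 (by decide) (by decide)) = ρ (cc a b c hab hbc) := by
      show ρ (emb f _) = _
      rw [emb_cc]
      simp only [hfa, hfb, hfc]
    rw [← hRt] at hcon h4 h5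
    set t : alternatingGroup (Fin 3) := cc 0 1 2 (by decide) (by decide) with ht
    have hR : ∀ x y v, R (x * y) v = R x (R y v) := fun x y v => mul_apply' R x y v
    have r1 : t * t * t = 1 := by decide
    have t3 : ∀ v, R t (R t (R t v)) = v := fun v => by rw [← hR, ← hR, r1, map_one, End.one_apply]
    have hinv : ∀ c : k, ∀ g, ∀ v ∈ (R t).eigenspace c, S g v ∈ (R t).eigenspace c := by
      intro c g v hv
      rw [End.mem_eigenspace_iff] at hv ⊢
      rw [hcomm, hv, map_smul]
    have htop := eq_top_of_eig h3 hω hω1 (R t) t3 (LinearMap.ker (S Z1 - 1))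
      (fun v hv => mem_kp.2 (klein_triv h2 S _ (hinv 1) (by omega) v hv))
      (fun v hv => mem_kp.2 (klein_triv h2 S _ (hinv ω) (by omega) v hv))
      (fun v hv => mem_kp.2 (klein_triv h2 S _ (hinv (ω ^ 2)) (by omega) v hv))
    have h6 : S Z1 = 1 := by
      ext v
      have : v ∈ LinearMap.ker (S Z1 - 1) := by rw [htop]; trivial
      rw [mem_kp.1 this, End.one_apply]
    have h7 : ρ (emb h Z1) = ρ 1 := by rw [map_one]; exact h6
    have h8 : emb h Z1 = emb h 1 := by rw [hinj h7, map_one]
    have h9 := emb_injective h h8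
    revert h9
    decide
  -- the property `P3`
  have hP3 : P3 ρ := by
    intro f u
    let R := ρ.comp (emb f)
    have hR : ∀ x y v, R (x * y) v = R x (R y v) := fun x y v => mul_apply' R x y v
    have hRt : R (cc 0 1 2 (by decide) (by decide)) =
        ρ (cc (f 0) (f 1) (f 2) (f.injective.ne (by decide)) (f.injective.ne (by decide))) := by
      show ρ (emb f _) = _
      rw [emb_cc]
    have hRs : R (cc 3 4 5 (by decide) (by decide)) =
        ρ (cc (f 3) (f 4) (f 5) (f.injective.ne (by decide)) (f.injective.ne (by decide))) := by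
      show ρ (emb f _) = _
      rw [emb_cc]
    have h4 := hdim (f 0) (f 1) (f 2) (f.injective.ne (by decide)) (f.injective.ne (by decide))
      (f.injective.ne (by decide))
    have h5 := eig_eq (by omega) ρ hω (a := f 0) (b := f 1) (c := f 2) (f.injective.ne (by decide))
      (f.injective.ne (by decide)) (f.injective.ne (by decide))
    rw [← hRt] at h4 h5 ⊢
    rw [← hRs]
    have t1 := fixed_of_dim_le_one hω hω1 R h4
    have t2 := fixed_of_dim_le_one (ω := ω ^ 2) (by rw [← pow_mul, mul_comm, pow_mul, hω, one_pow]) q1 R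
      (by rw [← h5]; exact h4)
    set t : alternatingGroup (Fin 6) := cc 0 1 2 (by decide) (by decide) with ht
    set s : alternatingGroup (Fin 6) := cc 3 4 5 (by decide) (by decide) with hs
    have r1 : t * t * t = 1 := by decide
    have t3 : ∀ v, R t (R t (R t v)) = v := fun v => by rw [← hR, ← hR, r1, map_one, End.one_apply]
    have htop := eq_top_of_eig h3 hω hω1 (R t) t3 (LinearMap.ker ((R s - 1) * (R t - 1)))
      (fun v hv => by
        rw [End.mem_eigenspace_iff, one_smul] at hv
        rw [LinearMap.mem_ker, End.mul_apply, LinearMap.sub_apply (R t), End.one_apply, hv, sub_self, map_zero])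
      (fun v hv => by
        have h6 := t1 v hv
        rw [End.mem_eigenspace_iff] at hv
        rw [LinearMap.mem_ker, End.mul_apply, LinearMap.sub_apply (R t), End.one_apply, hv, map_sub, map_smul,
          LinearMap.sub_apply, h6, End.one_apply, sub_self, smul_zero, sub_zero])
      (fun v hv => by
        have h6 := t2 v hv
        rw [End.mem_eigenspace_iff] at hv
        rw [LinearMap.mem_ker, End.mul_apply, LinearMap.sub_apply (R t), End.one_apply, hv, map_sub, map_smul,
          LinearMap.sub_apply, h6, End.one_apply, sub_self, smul_zero, sub_zero])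
    have h6 : u ∈ LinearMap.ker ((R s - 1) * (R t - 1)) := by rw [htop]; trivial
    rw [LinearMap.mem_ker, End.mul_apply, LinearMap.sub_apply (R t), End.one_apply, LinearMap.sub_apply,
      End.one_apply, sub_eq_zero] at h6
    exact h6
  -- an eigenvector
  obtain ⟨v, hv, hv0⟩ : ∃ v ∈ (ρ (cc (0 : Fin 7) 1 2 (by decide) (by decide))).eigenspace ω, v ≠ 0 := by
    rw [← Submodule.ne_bot_iff]
    intro hbot
    have h5 := eig_eq (by omega) ρ hω (a := (0 : Fin 7)) (b := 1) (c := 2) (by decide) (by decide) (by decide)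
    rw [hbot, finrank_bot] at h5
    have h6 := Submodule.finrank_eq_zero.1 h5.symm
    set t : alternatingGroup (Fin 7) := cc 0 1 2 (by decide) (by decide) with ht
    have r1 : t * t * t = 1 := by decide
    have t3 : ∀ v, ρ t (ρ t (ρ t v)) = v := fun v => by
      rw [← mul_apply', ← mul_apply', r1, map_one, End.one_apply]
    have htop := eq_top_of_eig h3 hω hω1 (ρ t) t3 ((ρ t).eigenspace 1) le_rfl (by rw [hbot]; exact bot_le)
      (by rw [h6]; exact bot_le)
    have h7 : ρ t = ρ 1 := by
      rw [map_one]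
      ext v
      have : v ∈ (ρ t).eigenspace 1 := by rw [htop]; trivial
      rw [End.mem_eigenspace_iff, one_smul] at this
      rw [this, End.one_apply]
    have h8 : t = 1 := hinj h7
    revert h8
    decide
  have h4 := final3 0 (by omega) ρ hP3 hω hω1 (a := (0 : Fin 7)) (b := 1) (c := 2) (by decide) (by decide) (by decide) hv0
    (End.mem_eigenspace_iff.1 hv)
  rw [hcard, if_neg (by norm_num)] at h4
  omega

end Cfsg.Agent.H324.Hall.AltSeven
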