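import Cfsg.Agent.H324.Hall.Lie5
import Cfsg.Agent.H331.SCExc
import Cfsg.Agent.H964.PrimeGraph
import Cfsg.Agent.S0222
import Cfsg.Agent.S1169

/-!
# `PartB` for the groups of Lie type in characteristic three, `3 ∤ |Y|`
-/

set_option autoImplicit false
set_option linter.unusedSectionVars false

open Module Cfsg

universe u

namespace Cfsg.Agent.H324.Hall

variable {T : Type u} [Group T] [Finite T] [IsSimpleGroup T] {Y : Subgroup T} {n : ℕ} {S : Type u} [Group S]
  [IsSimpleGroup S] {A : Subgroup (MulAut T)}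

/-- Sylow `2`-subgroups of a direct power of a Suzuki group. -/
theorem sylow_pow {Y : Type u} [Group Y] [Finite Y] {n : ℕ} (hn : n ≠ 0) {S : Type u} [Group S] [Finite S]
    (hS : Cfsg.Lie.IsoSuzuki S) (e : Y ≃* (Fin n → S)) (P : Sylow 2 Y) :
    (∀ x ∈ P, x * x = 1 → ∀ y ∈ P, x * y = y * x) ∧ ∃ x ∈ P, ∃ y ∈ P, x * y ≠ y * x := by
  have hp2 : Fact (Nat.Prime 2) := ⟨Nat.prime_two⟩
  let π : Fin n → (Y →* S) := fun i => (Pi.evalMonoidHom (fun _ : Fin n => S) i).comp e.toMonoidHom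
  have hπ : ∀ i, Function.Surjective (π i) := by
    intro i s
    exact ⟨e.symm (fun _ => s), by simp [π]⟩
  have hSL : ∀ i, H331.SCExc.SL ((P.mapSurjective (hπ i) : Sylow 2 S) : Subgroup S) := fun i =>
    H331.SCExc.sylow_isoSuzuki hS _
  have hmem : ∀ i, ∀ x ∈ P, π i x ∈ (P.mapSurjective (hπ i) : Sylow 2 S) := fun i x hx => ⟨x, hx, rfl⟩
  constructor
  · intro x hx hxx y hy
    apply e.injective
    funext i
    have h1 := (hSL i).inv ⟨π i x, hmem i x hx⟩ (Subtype.ext (by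
      show π i x * π i x = 1
      rw [← map_mul, hxx, map_one]))
    have h2 := Subgroup.mem_center_iff.1 h1 ⟨π i y, hmem i y hy⟩
    have h3 : π i y * π i x = π i x * π i y := congrArg Subtype.val h2
    rw [← map_mul, ← map_mul] at h3
    exact h3.symm
  · obtain ⟨⟨x, x', hx', rfl⟩, ⟨y, y', hy', rfl⟩, hxy⟩ := (hSL ⟨0, Nat.pos_of_ne_zero hn⟩).nab
    refine ⟨x', hx', y', hy', fun h => hxy (Subtype.ext ?_)⟩
    show π ⟨0, Nat.pos_of_ne_zero hn⟩ x' * π ⟨0, Nat.pos_of_ne_zero hn⟩ y' =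
      π ⟨0, Nat.pos_of_ne_zero hn⟩ y' * π ⟨0, Nat.pos_of_ne_zero hn⟩ x'
    rw [← map_mul, h, map_mul]

/-- Characteristic three, `3 ∤ |Y|`. -/
theorem Frame.char_three (f : Frame T Y n S A)
    (hFT : ∀ (X : Type u) [Group X] [Finite X], Odd (Nat.card X) → Group.IsSolvable X)
    (h : IsLieTypeChar 3 T) (h3 : ¬ 3 ∣ Nat.card Y) : False := by
  have hp2 : Fact (Nat.Prime 2) := ⟨Nat.prime_two⟩
  have hfin : Finite S := f.finiteS
  have h3S : ¬ 3 ∣ Nat.card S := fun h1 => h3 (by rw [f.card]; exact dvd_pow h1 f.pos)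
  have hSuz := ThreePrime.Main.isoSuzuki f.ncS h3S
  obtain ⟨e⟩ := f.equiv
  obtain ⟨P⟩ : Nonempty (Sylow 2 Y) := inferInstance
  obtain ⟨h4, h5⟩ := sylow_pow f.pos hSuz e P
  -- the Sylow subgroup of `T`
  have h2Y := f.two_dvd hFT
  have hidx : ¬ 2 ∣ ((P : Subgroup Y).map Y.subtype).index := by
    rw [Subgroup.index_map_subtype]
    intro h1
    rcases (Nat.Prime.dvd_mul Nat.prime_two).1 h1 with h1 | h1
    · exact P.not_dvd_index h1
    · have h2 := Nat.dvd_gcd h2Y h1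
      rw [f.cop] at h2
      norm_num at h2
  have hPp : IsPGroup 2 ((P : Subgroup Y).map Y.subtype) := P.isPGroup'.map _
  let Q : Sylow 2 T := hPp.toSylow hidx
  have hQ : (Q : Subgroup T) = (P : Subgroup Y).map Y.subtype := rfl
  -- its involutions
  let Z : Subgroup T :=
    { carrier := {x | x ∈ (Q : Subgroup T) ∧ x * x = 1}
      mul_mem' := by
        rintro _ _ ⟨⟨x, hx, rfl⟩, hxx⟩ ⟨⟨y, hy, rfl⟩, hyy⟩
        refine ⟨⟨x * y, mul_mem hx hy, map_mul _ _ _⟩, ?_⟩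
        have hxx' : x * x = 1 := Subtype.ext hxx
        have hyy' : y * y = 1 := Subtype.ext hyy
        have h6 := h4 x hx hxx' y hy
        have h7 : (x * y) * (x * y) = 1 := by
          calc (x * y) * (x * y) = x * (y * x) * y := by group
            _ = x * (x * y) * y := by rw [h6]
            _ = (x * x) * (y * y) := by group
            _ = 1 := by rw [hxx', hyy', one_mul]
        exact congrArg Subtype.val h7
      one_mem' := ⟨one_mem _, one_mul 1⟩
      inv_mem' := by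
        rintro x ⟨hx, hxx⟩
        refine ⟨inv_mem hx, ?_⟩
        rw [← mul_inv_rev, hxx, inv_one] }
  have hZle : Z ≤ (Q : Subgroup T) := fun x hx => hx.1
  have hZ1 : Z ≠ ⊥ := by
    intro hbot
    have h6 : 2 ∣ Nat.card (Q : Subgroup T) := by
      by_contra h7
      have h8 : 2 ∣ Nat.card (Q : Subgroup T) * (Q : Subgroup T).index := by
        rw [Subgroup.card_mul_index]
        exact h2Y.trans (Subgroup.card_subgroup_dvd_card Y)
      rcases (Nat.Prime.dvd_mul Nat.prime_two).1 h8 with h8 | h8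
      · exact h7 h8
      · exact Q.not_dvd_index h8
    obtain ⟨x, hx⟩ := exists_prime_orderOf_dvd_card' 2 h6
    have h7 : (x : T) ∈ Z := ⟨x.2, by
      have h9 : x ^ 2 = 1 := orderOf_dvd_iff_pow_eq_one.1 (dvd_of_eq hx)
      rw [pow_two] at h9
      exact congrArg Subtype.val h9⟩
    rw [hbot, Subgroup.mem_bot] at h7
    have h8 : x = 1 := Subtype.ext h7
    rw [h8, orderOf_one] at hx
    norm_num at hx
  have hZc : IsMulCommutative Z := by
    refine ⟨⟨?_⟩⟩
    rintro ⟨x, hx, hxx⟩ ⟨y, hy, hyy⟩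
    obtain ⟨x, hx, rfl⟩ := hx
    obtain ⟨y, hy, rfl⟩ := hy
    apply Subtype.ext
    show (x : T) * (y : T) = (y : T) * (x : T)
    exact congrArg Subtype.val (h4 x hx (Subtype.ext hxx) y hy)
  have hsc : Cfsg.IsStronglyClosed Z (Q : Subgroup T) := by
    refine ⟨hZle, ?_⟩
    rintro x ⟨hx, hxx⟩ g hg
    refine ⟨hg, ?_⟩
    calc g * x * g⁻¹ * (g * x * g⁻¹) = g * (x * x) * g⁻¹ := by group
      _ = 1 := by rw [hxx]; group
  rcases S1169.result Q Z hZ1 hZc hsc with h6 | ⟨H, hH⟩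
  · obtain ⟨x, hx, y, hy, hxy⟩ := h5
    apply hxy
    have h7 := h6.is_comm.comm ⟨(x : T), ⟨x, hx, rfl⟩⟩ ⟨(y : T), ⟨y, hy, rfl⟩⟩
    have h8 : (x : T) * (y : T) = (y : T) * (x : T) := congrArg Subtype.val h7
    exact Subtype.ext h8
  · have h3T : 3 ∣ Nat.card T := by
      by_contra h3T
      obtain ⟨r, hr, M, hM, hM1, -⟩ := H393.noBad_of_lie Nat.prime_three h (⊥ : Subgroup T) bot_ne_top
        (by rwa [Subgroup.index_bot]) (by rwa [Subgroup.index_bot])
      exact hM1 (le_bot_iff.1 hM)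
    rcases S0222.result f.nc H hH with ⟨F, _, _, hF, h4F, e'⟩ | h7 | ⟨F, _, _, q, hF, hq, hq4, ⟨e'⟩⟩
    · exact f.lieDvd Nat.prime_two (Or.inl ⟨F, _, _, hF, 2, le_rfl, fun _ => h4F, e'⟩) h2Y
    · exact H964.PrimeGraph.suzuki_not_dvd (H331.SCExc.isoSuzuki_of_isSuzuki h7) h3T
    · have hF2 : CharP F 2 := by
        obtain ⟨p, hp⟩ := CharP.exists F
        obtain ⟨k, hpp, hk⟩ := FiniteField.card F p
        have h2 : 2 ∣ p ^ (k : ℕ) := by
          rw [← hk, hF]
          exact dvd_pow (even_iff_two_dvd.1 hq) two_ne_zero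
        have h3 : p = 2 := ((Nat.prime_dvd_prime_iff_eq Nat.prime_two hpp).1 (Nat.prime_two.dvd_of_dvd_pow h2)).symm
        rwa [h3] at hp
      exact f.lieDvd Nat.prime_two (Or.inr (Or.inr (Or.inl ⟨F, _, _, hF2, 3, q, hF, le_rfl, by omega, ⟨e'⟩⟩))) h2Y

end Cfsg.Agent.H324.Hall
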