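import Cfsg.Agent.H324.Hall.Small
import Cfsg.Agent.H934.OutCl
import Cfsg.Agent.H376.WordEmb
import Cfsg.Agent.S0248
import Cfsg.Agent.S2299
import Cfsg.Agent.S2332

/-!
# `PartB` for the linear groups in characteristic at least five, `p ∤ |Y|`
-/

set_option autoImplicit false
set_option linter.unusedSectionVars false
set_option maxRecDepth 100000

open Module Cfsg

universe u

namespace Cfsg.Agent.H324.Hall

open Cfsg.Agent.OrdDiv

/-! ### Arithmetic -/

theorem exists_pow (F : Type*) [Field F] [Fintype F] (p : ℕ) [CharP F p] :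
    ∃ f : ℕ, 1 ≤ f ∧ Fintype.card F = p ^ f := by
  obtain ⟨n, -, h⟩ := FiniteField.card F p
  exact ⟨n, n.pos, h⟩

theorem five_mul_le {p f : ℕ} (hp : 5 ≤ p) (hf : 1 ≤ f) : 5 * f ≤ p ^ f := by
  have h1 : 5 * f ≤ 5 ^ f := by
    induction f, hf using Nat.le_induction with
    | base => norm_num
    | succ k hk ih => rw [pow_succ]; omega
  exact h1.trans (Nat.pow_le_pow_left hp f)

theorem twelve_mul_le {p f : ℕ} (hp : 5 ≤ p) (hf : 2 ≤ f) : 12 * f ≤ p ^ f := by
  have h1 : 12 * f ≤ 5 ^ f := by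
    induction f, hf using Nat.le_induction with
    | base => norm_num
    | succ k hk ih => rw [pow_succ]; omega
  exact h1.trans (Nat.pow_le_pow_left hp f)

theorem seven_mul_le {p f : ℕ} (hp : 5 ≤ p) (hf : 1 ≤ f) (h7 : 7 ≤ p ^ f) : 7 * f ≤ p ^ f := by
  rcases hf.eq_or_lt with h1 | h1
  · subst h1
    omega
  · have := twelve_mul_le hp h1
    omega

theorem psl2_arith {p f : ℕ} (hpr : p.Prime) (hp : 5 ≤ p) (hf : 1 ≤ f)
    (h : p ^ f ∉ [5, 7, 11, 13, 17, 25]) : 16 * f + 3 ≤ p ^ f := by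
  simp only [List.mem_cons, List.not_mem_nil, or_false, not_or] at h
  obtain ⟨h1, h2, h3, h4, h5, h6⟩ := h
  rcases hf.eq_or_lt with hf1 | hf1
  · subst hf1
    rw [pow_one] at *
    by_contra hcon
    have : p < 19 := by omega
    interval_cases p <;> first | omega | (revert hpr; decide)
  · rcases (show 2 ≤ f from hf1).eq_or_lt with hf2 | hf2
    · subst hf2
      have h7 : p ≠ 5 := by
        rintro rfl
        exact h6 (by norm_num)
      have h8 : p ≠ 6 := by
        rintro rfl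
        revert hpr; decide
      have h9 : 7 ≤ p := by omega
      nlinarith
    · have h7 : 16 * f + 3 ≤ 5 ^ f := by
        have h8 : 3 ≤ f := hf2
        clear * - h8
        induction f, h8 using Nat.le_induction with
        | base => norm_num
        | succ k hk ih => rw [pow_succ]; omega
      exact h7.trans (Nat.pow_le_pow_left hp f)

/-! ### `PSL₂` -/

/-- The irreducible representations of `SL₂(q)`, `q` odd. -/
theorem sl2_bound {F : Type*} [Field F] [Fintype F] (hodd : Odd (Fintype.card F)) (h5 : 5 ≤ Fintype.card F) (k : ℕ)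
    (ρ : Representation ℂ (Matrix.SpecialLinearGroup (Fin 2) F) (Fin k → ℂ)) (hρ : ρ.IsIrreducible) (hk : 2 ≤ k) :
    (Fintype.card F - 1) / 2 ≤ k := by
  have h1 := (S2299.result hodd).1 ρ.character ⟨k, ρ, hρ, rfl⟩
  have h2 : ρ.character 1 = (k : ℂ) := by
    rw [Representation.char_one, Module.finrank_fin_fun]
  rw [h2] at h1
  rcases h1 with h | h | h | h | h | h
  · have : k = 1 := by exact_mod_cast h
    omega
  · have : k = Fintype.card F := by exact_mod_cast h
    omega
  · have : k = Fintype.card F + 1 := by exact_mod_cast h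
    omega
  · have h' : ((k + 1 : ℕ) : ℂ) = (Fintype.card F : ℂ) := by
      push_cast
      rw [h]; ring
    have : k + 1 = Fintype.card F := by exact_mod_cast h'
    omega
  · have : k = (Fintype.card F + 1) / 2 := by exact_mod_cast h
    omega
  · have : k = (Fintype.card F - 1) / 2 := by exact_mod_cast h
    omega

section

variable {T : Type u} [Group T] [Finite T] [IsSimpleGroup T] {Y : Subgroup T} {n : ℕ} {S : Type u} [Group S]
  [IsSimpleGroup S] {A : Subgroup (MulAut T)}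

theorem slToMat_center {F : Type*} [Field F] {n : ℕ} (z : Matrix.SpecialLinearGroup (Fin n) F)
    (hz : z ∈ Subgroup.center (Matrix.SpecialLinearGroup (Fin n) F)) :
    ∃ c : F, slToMat n F z = c • 1 := by
  rw [Matrix.SpecialLinearGroup.mem_center_iff] at hz
  obtain ⟨r, -, hr⟩ := hz
  refine ⟨r, ?_⟩
  show (z : Matrix (Fin n) (Fin n) F) = r • 1
  rw [← hr]
  ext i j
  simp [Matrix.scalar_apply, Matrix.diagonal_apply, Matrix.one_apply]

theorem slToMat_injective {F : Type*} [Field F] {n : ℕ} : Function.Injective (slToMat n F) := by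
  intro a b h
  exact Subtype.ext h

theorem Frame.psl_two (f : Frame T Y n S A) (tab : OrderTable.{u}) (hS : IsKnownSimple' S) {p : ℕ} (hp : p.Prime)
    (hp5 : 5 ≤ p) (hpY : ¬ p ∣ Nat.card Y) {F : Type} [Field F] [Fintype F] [CharP F p]
    (e : T ≃* Matrix.ProjectiveSpecialLinearGroup (Fin 2) F) : Goal Y A f.conj_mem := by
  obtain ⟨a, ha, hF⟩ := exists_pow F p
  have hpa : 5 ≤ p ^ a := le_trans hp5 (Nat.le_self_pow (by omega) p)
  have hodd : Odd (Fintype.card F) := by
    rw [hF]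
    exact Odd.pow (hp.odd_of_ne_two (by omega))
  have hperf := H376.WordEmb.sl_two_perfect F (by omega)
  have hfact : Fact p.Prime := ⟨hp⟩
  obtain ⟨φ, -, hφ⟩ := f.exists_quot (Γ := Matrix.SpecialLinearGroup (Fin 2) F) e
  have hbig : ∀ d, d < (Fintype.card F - 1) / 2 → BigDeg T d := fun d hd =>
    bigDeg_of_irr hperf φ hφ fun k ρ hρ hk => lt_of_lt_of_le hd (sl2_bound hodd (by omega) k ρ hρ hk)
  have hcard : Nat.card T * 2 = Fintype.card F * (Fintype.card F ^ 2 - 1) := by
    rw [Nat.card_congr e.toEquiv]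
    exact ClassicalGeometry.PSL2Basic.card_PSL2_odd F hodd
  by_cases hex : p ^ a ∈ [5, 7, 11, 13, 17, 25]
  · rw [← hF] at hex
    simp only [List.mem_cons, List.not_mem_nil, or_false] at hex
    rcases hex with h | h | h | h | h | h
    · rw [h] at hcard
      exact (f.false_of_nil tab hS (N := 60) (by omega) [(2, 2), (3, 1), (5, 1)]
        (by decide +kernel) (by norm_num) (by decide +kernel)).elim
    · rw [h] at hcard
      exact (f.false_of_nil tab hS (N := 168) (by omega) [(2, 3), (3, 1), (7, 1)]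
        (by decide +kernel) (by norm_num) (by decide +kernel)).elim
    · rw [h] at hcard
      exact f.goal_660 tab hS (by omega) (hbig 4 (by rw [h]; norm_num))
    · rw [h] at hcard
      exact (f.false_of_nil tab hS (N := 1092) (by omega) [(2, 2), (3, 1), (7, 1), (13, 1)]
        (by decide +kernel) (by norm_num) (by decide +kernel)).elim
    · rw [h] at hcard
      exact (f.false_of_nil tab hS (N := 2448) (by omega) [(2, 4), (3, 2), (17, 1)]
        (by decide +kernel) (by norm_num) (by decide +kernel)).elim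
    · rw [h] at hcard
      exact (f.false_of_nil tab hS (N := 7800) (by omega) [(2, 3), (3, 1), (5, 2), (13, 1)]
        (by decide +kernel) (by norm_num) (by decide +kernel)).elim
  · have har := psl2_arith hp hp5 ha hex
    have h1 := S0813.result (F := F) p a ha hF 2 le_rfl (fun _ => by omega)
    rw [if_pos rfl, H934.OutCl.card_pgl le_rfl, one_mul, ← mul_assoc] at h1
    have ho : OutLe T (2 * a) := (f.outLe e h1).mono (by
      rw [mul_comm a]
      exact Nat.mul_le_mul_right a (Nat.gcd_le_left _ (by norm_num)))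
    refine f.goal_of_adj (Γ := Matrix.SpecialLinearGroup (Fin 2) F) e hp hpY (slToMat 2 F) slToMat_center
      slToMat_injective ho (hbig _ ?_)
    rw [Fintype.card_fin, hF]
    omega

/-! ### `PSL_n`, `n ≥ 3` -/

theorem psl_arith_three {q a g : ℕ} (hg : g ≤ 3) (h : q = 5 → g ≤ 1) (h5 : 5 * a ≤ q) (h7 : 7 ≤ q → 7 * a ≤ q)
    (hq : q = 5 ∨ 7 ≤ q) : 2 * (g * a) * 3 ^ 2 < (q ^ 3 - q) / (q - 1) := by
  have h1 : (q ^ 3 - q) / (q - 1) = q ^ 2 + q := by
    apply Nat.div_eq_of_eq_mul_left (by omega)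
    obtain ⟨r, rfl⟩ : ∃ r, q = r + 1 := ⟨q - 1, by omega⟩
    rw [Nat.add_sub_cancel]
    apply Nat.sub_eq_of_eq_add
    ring
  rw [h1]
  rcases hq with rfl | hq
  · have : a ≤ 1 := by omega
    have := h rfl
    have : g * a ≤ 1 * 1 := Nat.mul_le_mul (by omega) (by omega)
    omega
  · have h2 := h7 hq
    have h3 : g * a ≤ 3 * a := Nat.mul_le_mul_right a hg
    nlinarith

theorem pow_ge_cube {n : ℕ} (hn : 4 ≤ n) : 2 * n ^ 3 < 6 * 5 ^ (n - 2) := by
  induction n, hn using Nat.le_induction with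
  | base => norm_num
  | succ k hk ih =>
    have h1 : k + 1 - 2 = (k - 2) + 1 := by omega
    have h2 : 6 * 5 ^ (k + 1 - 2) = 5 * (6 * 5 ^ (k - 2)) := by rw [h1, pow_succ]; ring
    rw [h2]
    obtain ⟨j, rfl⟩ : ∃ j, k = j + 4 := ⟨k - 4, by omega⟩
    have h3 : 5 * (2 * (j + 4) ^ 3) = 2 * (j + 4 + 1) ^ 3 + (8 * j ^ 3 + 90 * j ^ 2 + 330 * j + 390) := by ring
    omega

theorem psl_arith {n q a g : ℕ} (hn : 4 ≤ n) (hg : g ≤ n) (hq : 5 ≤ q) (h5 : 5 * a ≤ q) (ha : 1 ≤ a) :
    2 * (g * a) * n ^ 2 < (q ^ n - q) / (q - 1) := by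
  have h1 : q ^ (n - 2) * (q + 1) ≤ (q ^ n - q) / (q - 1) := by
    rw [Nat.le_div_iff_mul_le (by omega)]
    obtain ⟨r, rfl⟩ : ∃ r, q = r + 1 := ⟨q - 1, by omega⟩
    obtain ⟨m, rfl⟩ : ∃ m, n = m + 2 := ⟨n - 2, by omega⟩
    rw [Nat.add_sub_cancel, Nat.add_sub_cancel]
    apply Nat.le_sub_of_add_le
    have h2 : r + 1 ≤ (r + 1) ^ m := Nat.le_self_pow (by omega) _
    calc (r + 1) ^ m * (r + 1 + 1) * r + (r + 1) ≤ (r + 1) ^ m * (r + 1 + 1) * r + (r + 1) ^ m := by omega
      _ = (r + 1) ^ (m + 2) := by ring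
  refine lt_of_lt_of_le ?_ h1
  have h2 : 2 * (g * a) * n ^ 2 ≤ 2 * n ^ 3 * a := by
    calc 2 * (g * a) * n ^ 2 = g * (2 * a * n ^ 2) := by ring
      _ ≤ n * (2 * a * n ^ 2) := Nat.mul_le_mul_right _ hg
      _ = 2 * n ^ 3 * a := by ring
  refine lt_of_le_of_lt h2 ?_
  have h3 := pow_ge_cube hn
  have h4 : 6 * 5 ^ (n - 2) * a ≤ q ^ (n - 2) * (q + 1) := by
    obtain ⟨m, hm⟩ : ∃ m, n - 2 = m + 1 := ⟨n - 3, by omega⟩
    rw [hm, pow_succ, pow_succ]
    calc 6 * (5 ^ m * 5) * a = 5 ^ m * (5 * a) * 6 := by ring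
      _ ≤ q ^ m * q * (q + 1) := Nat.mul_le_mul (Nat.mul_le_mul (Nat.pow_le_pow_left hq m) h5) (by omega)
  calc 2 * n ^ 3 * a < 6 * 5 ^ (n - 2) * a := Nat.mul_lt_mul_of_pos_right h3 ha
    _ ≤ _ := h4

theorem Frame.psl (f : Frame T Y n S A) {p : ℕ} (hp : p.Prime)
    (hp5 : 5 ≤ p) (hpY : ¬ p ∣ Nat.card Y) {F : Type} [Field F] [Fintype F] [CharP F p] {m : ℕ} (hm : 3 ≤ m)
    (e : T ≃* Matrix.ProjectiveSpecialLinearGroup (Fin m) F) : Goal Y A f.conj_mem := by
  classical
  obtain ⟨a, ha, hF⟩ := exists_pow F p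
  have hpa : 5 ≤ p ^ a := le_trans hp5 (Nat.le_self_pow (by omega) p)
  have hperf := S0248.result (F := F) m hm
  have hfact : Fact p.Prime := ⟨hp⟩
  obtain ⟨φ, -, hφ⟩ := f.exists_quot (Γ := Matrix.SpecialLinearGroup (Fin m) F) e
  have hex : (m, Fintype.card F) ≠ (3, 2) ∧ (m, Fintype.card F) ≠ (3, 4) ∧ (m, Fintype.card F) ≠ (4, 2) ∧
      (m, Fintype.card F) ≠ (4, 3) := by
    refine ⟨?_, ?_, ?_, ?_⟩ <;>
    · intro h
      rw [Prod.mk.injEq] at h
      omega
  have hbig : ∀ d, d < (Fintype.card F ^ m - Fintype.card F) / (Fintype.card F - 1) → BigDeg T d := fun d hd =>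
    bigDeg_of_irr hperf φ hφ fun k ρ hρ hk => lt_of_lt_of_le hd ((S2332.result m hm hex).1 k ρ hρ hk)
  have h1 := S0813.result (F := F) p a ha hF m (by omega) (fun _ => by omega)
  rw [if_neg (by omega), H934.OutCl.card_pgl (by omega), ← mul_assoc] at h1
  have ho : OutLe T (2 * (Nat.gcd m (Fintype.card F - 1) * a)) := (f.outLe e h1).mono (le_of_eq (by ring))
  refine f.goal_of_adj (Γ := Matrix.SpecialLinearGroup (Fin m) F) e hp hpY (slToMat m F) slToMat_center
    slToMat_injective ho (hbig _ ?_)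
  rw [Fintype.card_fin, hF]
  have h5 : 5 * a ≤ p ^ a := five_mul_le hp5 ha
  have hg : Nat.gcd m (p ^ a - 1) ≤ m := Nat.gcd_le_left _ (by omega)
  rcases hm.eq_or_lt with rfl | hm
  · refine psl_arith_three hg ?_ h5 (seven_mul_le hp5 ha) ?_
    · intro h
      rw [h]
      norm_num
    · by_contra hcon
      have h6 : p ^ a = 6 := by omega
      have h7 : p ∣ 6 := by rw [← h6]; exact dvd_pow_self p (by omega)
      have h8 := Nat.le_of_dvd (by norm_num) h7
      interval_cases p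
      · norm_num at h7
      · revert hp; decide
  · exact psl_arith hm hg hpa h5 ha

end

end Cfsg.Agent.H324.Hall
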