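import Cfsg.Agent.H324.Hall.HeisTab
import Cfsg.Agent.H324.Hall.FamLin
import Cfsg.Agent.S2121
import Cfsg.Agent.S2122
import Cfsg.Agent.S2123
import Cfsg.Agent.S2124
import Cfsg.Agent.S2125

/-!
# `PartB` for the exceptional Chevalley groups in characteristic at least five, `p ∤ |Y|`
-/

set_option autoImplicit false
set_option linter.unusedSectionVars false
set_option maxRecDepth 100000

open Module Cfsg

universe u

namespace Cfsg.Agent.H324.Hall

open Cfsg.Lie Cfsg.Agent.ChevalleyStructure.Elts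

theorem tab_f4 : Tab chevF4 47 [24, 26, 31, 32] [46, 45, 43, 42] [1, 1, -1, 1] 4 := by decide +kernel

theorem tab_e7 : Tab chevE7 125 [93, 94, 95, 96] [124, 123, 122, 121] [1, -1, 1, -1] 4 := by decide +kernel

theorem tab_e8 : Tab chevE8 239 [120, 122, 125, 129] [238, 237, 236, 235] [1, 1, 1, 1] 4 := by decide +kernel

theorem Heis.map {F : Type*} [Field F] {G G' : Type*} [Group G] [Group G'] {z : F → G} {x y : ℕ → F → G}
    {ε : ℕ → F} {k : ℕ} (H : Heis z x y ε k) (φ : G →* G') :
    Heis (fun t => φ (z t)) (fun i t => φ (x i t)) (fun i t => φ (y i t)) ε k where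
  eps := H.eps
  zero i hi := by rw [H.zero i hi, map_one]
  add i hi a b := by rw [H.add i hi, map_mul]
  xx i hi j hj hij a b := by rw [← map_mul, H.xx i hi j hj hij, map_mul]
  xy i hi j hj hij a b := by rw [← map_mul, H.xy i hi j hj hij, map_mul]
  c i hi a b := by rw [← map_mul, H.c i hi, map_mul, map_mul]
  zx i hi a b := by rw [← map_mul, H.zx i hi, map_mul]
  zy i hi a b := by rw [← map_mul, H.zy i hi, map_mul]

theorem pow_five_mul {q a k : ℕ} (hq : 5 ≤ q) (h5 : 5 * a ≤ q) : 5 ^ (k + 1) * a ≤ q ^ (k + 1) := by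
  rw [pow_succ, pow_succ]
  calc 5 ^ k * 5 * a = 5 ^ k * (5 * a) := by ring
    _ ≤ q ^ k * q := Nat.mul_le_mul (Nat.pow_le_pow_left hq k) h5

/-- `|Out|` transported -/
theorem outLe_of_out {T : Type*} [Group T] {X : Type u} [Group X] (e : T ≃* X) {o : ℕ}
    (h : Nat.card (Cfsg.Out X) ≤ o) : OutLe T o := by
  have h1 : OutLe X o := h
  exact h1.congr e

section

variable {T : Type u} [Group T] [Finite T] [IsSimpleGroup T] {Y : Subgroup T} {n : ℕ} {S : Type u} [Group S]
  [IsSimpleGroup S] {A : Subgroup (MulAut T)}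

theorem Frame.chev (f : Frame T Y n S A) {p : ℕ} (hp : p.Prime) (hpY : ¬ p ∣ Nat.card Y) {F : Type} [Field F]
    [Fintype F] [CharP F p] {D : ChevalleyDatum} (hD : InList D) (e : T ≃* ↥(D.group F)) {z : ℕ} {xs ys : List ℕ}
    {cs : List ℤ} {k : ℕ} (tab : Tab D z xs ys cs k) (hc : ∀ i < k, ((cs.getD i 0 : ℤ) : F) ≠ 0) {o : ℕ}
    (ho : OutLe T o) (h : o * (D.rank + D.nroots) < Fintype.card F ^ k) : Goal Y A f.conj_mem := by
  have H := ((tab.heis hD hc).restrict (RingHom.id F) (D.group F) (fun t => xG_mem_group hD _ _)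
    (fun i t => xG_mem_group hD _ _) (fun i t => xG_mem_group hD _ _)).map e.symm.toMonoidHom
  have hcard : Fintype.card D.Idx = D.rank + D.nroots := by
    rw [Fintype.card_sum, Fintype.card_fin, Fintype.card_fin]
  refine f.goal_of_mat e hp hpY ((Units.coeHom (Matrix D.Idx D.Idx F)).comp (D.group F).subtype) ?_ ho ?_
  · intro a b hab
    exact Subtype.ext (Units.ext hab)
  · rw [hcard]
    refine H.bigDeg ?_ ?_ ⟨1, ?_⟩ h
    · show e.symm ⟨xG hD z (0 : F), _⟩ = 1
      rw [EmbeddingLike.map_eq_one_iff]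
      exact Subtype.ext (xG_zero hD z)
    · intro a b
      show e.symm ⟨xG hD z (a + b), _⟩ = e.symm ⟨xG hD z a, _⟩ * e.symm ⟨xG hD z b, _⟩
      rw [← map_mul]
      congr 1
      exact Subtype.ext (xG_add hD z a b).symm
    · show e.symm ⟨xG hD z (1 : F), _⟩ ≠ 1
      rw [Ne, EmbeddingLike.map_eq_one_iff]
      intro h1
      have h2 : xG hD z (1 : F) = 1 := congrArg Subtype.val h1
      rw [xG_eq_one_iff hD tab.1] at h2
      exact one_ne_zero h2

theorem cast_ne {F : Type*} [Field F] {p : ℕ} (hp5 : 5 ≤ p) [CharP F p] {c : ℤ}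
    (hc : c = 1 ∨ c = -1 ∨ c = 3) : ((c : ℤ) : F) ≠ 0 := by
  rcases hc with rfl | rfl | rfl
  · simp
  · simp
  · intro h
    have h1 : ((3 : ℕ) : F) = 0 := by exact_mod_cast h
    rw [CharP.cast_eq_zero_iff F p] at h1
    have := Nat.le_of_dvd (by norm_num) h1
    omega

theorem Frame.excChev (f : Frame T Y n S A) {p : ℕ} (hp : p.Prime) (hp5 : 5 ≤ p) (hpY : ¬ p ∣ Nat.card Y)
    (h : IsExceptionalChevChar p T) : Goal Y A f.conj_mem := by
  obtain ⟨F, _, _, _, h⟩ := h
  obtain ⟨a, ha, hF⟩ := exists_pow F p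
  have hpa : 5 ≤ p ^ a := le_trans hp5 (Nat.le_self_pow (by omega) p)
  have hfact : Fact p.Prime := ⟨hp⟩
  have h5 := five_mul_le hp5 ha
  have hq2 := pow_five_mul (k := 1) hpa h5
  have hq4 := pow_five_mul (k := 3) hpa h5
  rcases h with ⟨-, ⟨e⟩⟩ | ⟨⟨e⟩⟩ | ⟨⟨e⟩⟩ | ⟨⟨e⟩⟩ | ⟨⟨e⟩⟩
  · have h1 := S2121.result (F := F) p a hF (by omega)
    rw [if_neg (by omega)] at h1
    refine f.chev hp hpY (by simp) e tab_g2 ?_ (outLe_of_out e (le_of_eq h1)) ?_
    · intro i hi
      interval_cases i
      · exact cast_ne hp5 (Or.inl rfl)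
      · exact cast_ne hp5 (Or.inr (Or.inr rfl))
    · rw [hF, show chevG2.rank + chevG2.nroots = 14 from by decide +kernel]
      norm_num at hq2 ⊢
      omega
  · have h1 := S2122.result (F := F) p a hF
    refine f.chev hp hpY (by simp) e tab_f4 ?_ (outLe_of_out e (o := 2 * a) ?_) ?_
    · intro i hi
      interval_cases i
      · exact cast_ne hp5 (Or.inl rfl)
      · exact cast_ne hp5 (Or.inl rfl)
      · exact cast_ne hp5 (Or.inr (Or.inl rfl))
      · exact cast_ne hp5 (Or.inl rfl)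
    · rw [h1]
      exact Nat.mul_le_mul_right a (Nat.gcd_le_left _ (by norm_num))
    · rw [hF, show chevF4.rank + chevF4.nroots = 52 from by decide +kernel]
      norm_num at hq4 ⊢
      omega
  · have h1 := S2123.result (F := F) p a hF
    refine f.chev hp hpY (by simp) e tab_e6 ?_ (outLe_of_out e (o := 6 * a) ?_) ?_
    · intro i hi
      interval_cases i
      · exact cast_ne hp5 (Or.inl rfl)
      · exact cast_ne hp5 (Or.inr (Or.inl rfl))
      · exact cast_ne hp5 (Or.inr (Or.inl rfl))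
      · exact cast_ne hp5 (Or.inl rfl)
    · rw [h1]
      refine Nat.mul_le_mul_right a ?_
      have := Nat.gcd_le_left (p ^ a - 1) (show 0 < 3 by norm_num)
      omega
    · rw [hF, show chevE6.rank + chevE6.nroots = 78 from by decide +kernel]
      norm_num at hq4 ⊢
      omega
  · have h1 := S2124.result (F := F) p a hF
    refine f.chev hp hpY (by simp) e tab_e7 ?_ (outLe_of_out e (o := 2 * a) ?_) ?_
    · intro i hi
      interval_cases i
      · exact cast_ne hp5 (Or.inl rfl)
      · exact cast_ne hp5 (Or.inr (Or.inl rfl))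
      · exact cast_ne hp5 (Or.inl rfl)
      · exact cast_ne hp5 (Or.inr (Or.inl rfl))
    · rw [h1]
      exact Nat.mul_le_mul_right a (Nat.gcd_le_left _ (by norm_num))
    · rw [hF, show chevE7.rank + chevE7.nroots = 133 from by decide +kernel]
      norm_num at hq4 ⊢
      omega
  · have h1 := S2125.result (F := F) p a hF
    refine f.chev hp hpY (by simp) e tab_e8 ?_ (outLe_of_out e (le_of_eq h1)) ?_
    · intro i hi
      interval_cases i
      · exact cast_ne hp5 (Or.inl rfl)
      · exact cast_ne hp5 (Or.inl rfl)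
      · exact cast_ne hp5 (Or.inl rfl)
      · exact cast_ne hp5 (Or.inl rfl)
    · rw [hF, show chevE8.rank + chevE8.nroots = 248 from by decide +kernel]
      norm_num at hq4 ⊢
      omega

end

end Cfsg.Agent.H324.Hall
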