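import Cfsg.Agent.H324.Hall.OrthBound
import Cfsg.Agent.S0816
import Cfsg.Agent.S0817
import Cfsg.Agent.S0818

/-!
# `PartB` for the orthogonal groups in characteristic at least five, `p ∤ |Y|`
-/

set_option autoImplicit false
set_option linter.unusedSectionVars false

open Module Cfsg QuadraticMap

universe u

namespace Cfsg.Agent.H324.Hall

open Cfsg.Agent.LieClassical.OrthCore Cfsg.Agent.LieClassical.OrthTrans
  Cfsg.Agent.LieClassical.OrthFinite Cfsg.Agent.LieClassical.OrthForms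
  Cfsg.Agent.H122.OrthWt Cfsg.Agent.H122.OrthRep Cfsg.Agent.H122.OrthStep Cfsg.Agent.H122.OrthIso Cfsg.Agent.H122

/-! ### Arithmetic -/

/-- `c k² ≤ 4 · 5 ^ (k - 4)` from the start `c · 64 ≤ 2500` -/
theorem orth_arith_aux {k : ℕ} (hk : 7 ≤ k) : 24 * (k + 1) ^ 2 < 4 * 5 ^ (k - 3) := by
  induction k, hk using Nat.le_induction with
  | base => norm_num
  | succ k hk ih =>
    have h1 : k + 1 - 3 = (k - 3) + 1 := by omega
    have h2 : 4 * 5 ^ (k + 1 - 3) = 5 * (4 * 5 ^ (k - 3)) := by rw [h1, pow_succ]; ring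
    rw [h2]
    nlinarith

theorem pow_low {q a j : ℕ} (hq : 5 ≤ q) (h5 : 5 * a ≤ q) : 4 * 5 ^ (j + 1) * a ≤ q ^ (j + 1) * (q - 1) := by
  obtain ⟨r, rfl⟩ : ∃ r, q = r + 1 := ⟨q - 1, by omega⟩
  rw [Nat.add_sub_cancel, pow_succ, pow_succ]
  calc 4 * (5 ^ j * 5) * a = 5 ^ j * (5 * a) * 4 := by ring
    _ ≤ (r + 1) ^ j * (r + 1) * r := Nat.mul_le_mul (Nat.mul_le_mul (Nat.pow_le_pow_left hq j) h5) (by omega)

/-- dimension `8` and more -/
theorem orth_arith {q a k : ℕ} (ha : 1 ≤ a) (hq : 5 ≤ q) (h5 : 5 * a ≤ q) (hk : 8 ≤ k) :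
    24 * a * k ^ 2 < q ^ (k - 4) * (q - 1) := by
  obtain ⟨m, rfl⟩ : ∃ m, k = m + 1 := ⟨k - 1, by omega⟩
  have h1 := orth_arith_aux (k := m) (by omega)
  have h2 := pow_low (j := m - 4) hq h5
  have h3 : m - 4 + 1 = m + 1 - 4 := by omega
  have h4 : m + 1 - 4 = m - 3 := by omega
  rw [h3] at h2
  refine lt_of_lt_of_le ?_ h2
  rw [h4]
  calc 24 * a * (m + 1) ^ 2 = 24 * (m + 1) ^ 2 * a := by ring
    _ < 4 * 5 ^ (m - 3) * a := Nat.mul_lt_mul_of_pos_right h1 ha

/-- odd dimension -/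
theorem orth_arith_odd {q a k : ℕ} (ha : 1 ≤ a) (hq : 5 ≤ q) (h5 : 5 * a ≤ q) (hk : 7 ≤ k) :
    2 * a * k ^ 2 < q ^ (k - 4) * (q - 1) := by
  rcases hk.eq_or_lt with rfl | hk
  · have h2 := pow_low (j := 2) hq h5
    refine lt_of_lt_of_le ?_ h2
    norm_num
    omega
  · refine lt_of_le_of_lt ?_ (orth_arith ha hq h5 hk)
    exact Nat.mul_le_mul_right _ (by omega)

/-! ### The families -/

section

variable {T : Type u} [Group T] [Finite T] [IsSimpleGroup T] {Y : Subgroup T} {n : ℕ} {S : Type u} [Group S]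
  [IsSimpleGroup S] {A : Subgroup (MulAut T)}

theorem Frame.orth (f : Frame T Y n S A) {p : ℕ} (hp : p.Prime) (hpY : ¬ p ∣ Nat.card Y) {F : Type} [Field F]
    [Fintype F] [CharP F p] {ι : Type} [Fintype ι] [DecidableEq ι] {Q : QuadraticForm F (ι → F)} (hG : Good Q)
    (e : T ≃* POmega F ⇑Q) {W : Type} [AddCommGroup W] [Module F W] [Fintype W] {Q0 : QuadraticForm F W}
    (hiso : IsoQ Q (HQ (HQ Q0))) (hQ0 : Nondeg Q0) (hd : 3 ≤ finrank F W) {o : ℕ} (ho : OutLe T o)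
    (h : o * Fintype.card ι ^ 2 < Fintype.card W * (Fintype.card F - 1)) : Goal Y A f.conj_mem := by
  have hb : BigDeg (Omega F ⇑Q) (o * Fintype.card ι ^ 2) := bigDeg_omega hG hiso hQ0 hd h
  obtain ⟨φ, hφ, -⟩ := f.exists_quot (Γ := Omega F ⇑Q) e
  have hdim : 5 ≤ Fintype.card ι := by
    have := hG.dim
    rwa [Module.finrank_fintype_fun_eq_card] at this
  obtain ⟨w, hw0, hw⟩ := hG.sing
  refine f.goal_of_adj (Γ := Omega F ⇑Q) e hp hpY
    ((Units.coeHom (Matrix ι ι F)).comp ((isometryGroup F ⇑Q).subtype.comp (Omega F ⇑Q).subtype)) ?_ ?_ ho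
    (hb.of_surj φ hφ)
  · intro z hz
    rcases (LieClassical.OmegaCenter.mem_center_omega_iff Q
      (H181.FormNondeg.nondegenerate_of_nondeg Q hG.nondeg) (by omega) ⟨w, hw0, hw⟩ z).1 hz with h1 | h1
    · exact ⟨1, by rw [one_smul]; exact h1⟩
    · exact ⟨-1, by rw [neg_smul, one_smul]; exact h1⟩
  · intro x y hxy
    exact LieClassical.OmegaCenter.omega_ext hxy

theorem Frame.odd (f : Frame T Y n S A) {p : ℕ} (hp : p.Prime) (hp5 : 5 ≤ p) (hpY : ¬ p ∣ Nat.card Y) {F : Type}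
    [Field F] [Fintype F] [CharP F p] {m : ℕ} (hm : 3 ≤ m) (e : T ≃* POmega F (quadFormOdd m F)) :
    Goal Y A f.conj_mem := by
  obtain ⟨a, ha, hF⟩ := exists_pow F p
  have hpa : 5 ≤ p ^ a := le_trans hp5 (Nat.le_self_pow (by omega) p)
  have hfact : Fact p.Prime := ⟨hp⟩
  have hodd : Odd p := hp.odd_of_ne_two (by omega)
  have h2 : (2 : F) ≠ 0 := by
    intro h
    have h3 : ((2 : ℕ) : F) = 0 := by exact_mod_cast h
    rw [CharP.cast_eq_zero_iff F p] at h3
    have := Nat.le_of_dvd (by norm_num) h3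
    omega
  have h1 := S0816.result (F := F) p a ha hF hodd m hm
  have ho : OutLe T (2 * a) := f.outLe e h1
  obtain ⟨k, rfl⟩ : ∃ k, m = k + 2 := ⟨m - 2, by omega⟩
  rw [← coe_oddForm] at e
  have hG : Good (oddForm (k + 2) F) := good_of_finite (nondeg_oddForm _ _ h2) (by
    rw [Module.finrank_fintype_fun_eq_card, Fintype.card_sum, Fintype.card_sum, Fintype.card_fin, Fintype.card_unit]
    omega)
  refine f.orth hp hpY hG e (Q0 := oddForm k F) ((isoQ_odd (k + 1)).trans (isoQ_odd k).hq) (nondeg_oddForm _ _ h2)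
    ?_ ho ?_
  · rw [Module.finrank_fintype_fun_eq_card, Fintype.card_sum, Fintype.card_sum, Fintype.card_fin, Fintype.card_unit]
    omega
  · rw [Fintype.card_sum, Fintype.card_sum, Fintype.card_fin, Fintype.card_unit, Fintype.card_fun, Fintype.card_sum,
      Fintype.card_sum, Fintype.card_fin, Fintype.card_unit, hF]
    have := orth_arith_odd (k := 1 + (k + 2 + (k + 2))) ha hpa (five_mul_le hp5 ha) (by omega)
    rwa [show 1 + (k + 2 + (k + 2)) - 4 = 1 + (k + k) from by omega] at this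

theorem Frame.plus (f : Frame T Y n S A) {p : ℕ} (hp : p.Prime) (hp5 : 5 ≤ p) (hpY : ¬ p ∣ Nat.card Y) {F : Type}
    [Field F] [Fintype F] [CharP F p] {m : ℕ} (hm : 4 ≤ m) (e : T ≃* POmega F (quadFormPlus m F)) :
    Goal Y A f.conj_mem := by
  obtain ⟨a, ha, hF⟩ := exists_pow F p
  have hpa : 5 ≤ p ^ a := le_trans hp5 (Nat.le_self_pow (by omega) p)
  have hfact : Fact p.Prime := ⟨hp⟩
  have h1 := S0817.result (F := F) p a ha hF m hm
  have ho : OutLe T (24 * a) := (f.outLe e h1).mono (by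
    refine Nat.mul_le_mul_right a ?_
    split_ifs <;> norm_num)
  obtain ⟨k, rfl⟩ : ∃ k, m = k + 2 := ⟨m - 2, by omega⟩
  rw [← coe_plusForm] at e
  have hG : Good (plusForm (k + 2) F) := good_of_finite (nondeg_plusForm _ _) (by
    rw [Module.finrank_fintype_fun_eq_card, Fintype.card_sum, Fintype.card_fin]
    omega)
  refine f.orth hp hpY hG e (Q0 := plusForm k F) ((isoQ_plus (k + 1)).trans (isoQ_plus k).hq) (nondeg_plusForm _ _)
    ?_ ho ?_
  · rw [Module.finrank_fintype_fun_eq_card, Fintype.card_sum, Fintype.card_fin]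
    omega
  · rw [Fintype.card_sum, Fintype.card_fin, Fintype.card_fun, Fintype.card_sum, Fintype.card_fin, hF]
    have := orth_arith (k := k + 2 + (k + 2)) ha hpa (five_mul_le hp5 ha) (by omega)
    rwa [show k + 2 + (k + 2) - 4 = k + k from by omega] at this

theorem Frame.minus (f : Frame T Y n S A) {p : ℕ} (hp : p.Prime) (hp5 : 5 ≤ p) (hpY : ¬ p ∣ Nat.card Y) {F : Type}
    [Field F] [Fintype F] [CharP F p] {m : ℕ} (hm : 4 ≤ m) (c d : F)
    (hcd : ∀ z₁ z₂ : F, z₁ ^ 2 + c * z₁ * z₂ + d * z₂ ^ 2 = 0 → z₁ = 0 ∧ z₂ = 0)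
    (e : T ≃* POmega F (quadFormMinus (m - 1) F c d)) : Goal Y A f.conj_mem := by
  obtain ⟨a, ha, hF⟩ := exists_pow F p
  have hpa : 5 ≤ p ^ a := le_trans hp5 (Nat.le_self_pow (by omega) p)
  have hfact : Fact p.Prime := ⟨hp⟩
  have h1 := S0818.result (F := F) p a ha hF m hm c d hcd
  have ho : OutLe T (24 * a) := (f.outLe e h1).mono (by
    refine Nat.mul_le_mul_right a ?_
    split_ifs <;> norm_num)
  obtain ⟨k, rfl⟩ : ∃ k, m = k + 3 := ⟨m - 3, by omega⟩
  have hk : k + 3 - 1 = k + 2 := by omega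
  rw [hk, ← coe_minusForm] at e
  have hG : Good (minusForm (k + 2) F c d) := good_of_finite (nondeg_minusForm _ _ _ _ hcd) (by
    rw [Module.finrank_fintype_fun_eq_card, Fintype.card_sum, Fintype.card_sum, Fintype.card_fin, Fintype.card_fin]
    omega)
  refine f.orth hp hpY hG e (Q0 := minusForm k F c d) ((isoQ_minus (k + 1) c d).trans (isoQ_minus k c d).hq)
    (nondeg_minusForm _ _ _ _ hcd) ?_ ho ?_
  · rw [Module.finrank_fintype_fun_eq_card, Fintype.card_sum, Fintype.card_sum, Fintype.card_fin, Fintype.card_fin]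
    omega
  · rw [Fintype.card_sum, Fintype.card_sum, Fintype.card_fin, Fintype.card_fin, Fintype.card_fun, Fintype.card_sum,
      Fintype.card_sum, Fintype.card_fin, Fintype.card_fin, hF]
    have := orth_arith (k := k + 2 + (k + 2) + 2) ha hpa (five_mul_le hp5 ha) (by omega)
    rwa [show k + 2 + (k + 2) + 2 - 4 = k + k + 2 from by omega] at this

end

end Cfsg.Agent.H324.Hall
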