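import Cfsg.Agent.H324.Hall.FamLin
import Cfsg.Agent.H131.ClassTwo
import Cfsg.Agent.H285.TwoPart
import Cfsg.Agent.S2393

/-!
# `PartB` for the symplectic groups in characteristic at least five, `p ∤ |Y|`
-/

set_option autoImplicit false
set_option linter.unusedSectionVars false
set_option maxRecDepth 100000

open Module Cfsg

universe u

namespace Cfsg.Agent.H324.Hall

open Cfsg.Agent.OrdDiv

/-- A bound for representations with central kernel. -/
theorem bigDeg_of_ker {Γ T : Type*} [Group Γ] [Group T] [IsSimpleGroup T] (φ : Γ →* T)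
    (hφ : φ.ker ≤ Subgroup.center Γ) {b d : ℕ}
    (h : ∀ (k : ℕ) (ρ : Γ →* Matrix.GeneralLinearGroup (Fin k) ℂ), ρ.ker ≤ Subgroup.center Γ → b ≤ k) (hd : d < b) :
    BigDeg T d := by
  intro m σ hσ
  have hker : σ.ker = ⊥ := by
    rcases (inferInstance : σ.ker.Normal).eq_bot_or_eq_top with h1 | h1
    · exact h1
    · exfalso
      apply hσ
      ext1 t
      have : t ∈ σ.ker := by rw [h1]; trivial
      exact this
  refine lt_of_lt_of_le hd (h m (σ.comp φ) ?_)
  intro g hg
  apply hφ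
  have h1 : φ g ∈ σ.ker := hg
  rwa [hker, Subgroup.mem_bot] at h1

theorem sp_arith {m q a : ℕ} (hm : 2 ≤ m) (ha : 1 ≤ a) (hq : 5 ≤ q) (h5 : 5 * a ≤ q)
    (h12 : 2 ≤ a → 12 * a ≤ q) (h2 : m = 2 → 11 ≤ q) (h3 : m = 3 → 7 ≤ q) :
    2 * a * (m + m) ^ 2 < q ^ (m - 1) * (q - 1) / 2 := by
  have key : 16 * m ^ 2 * a + 2 ≤ q ^ (m - 1) * (q - 1) := by
    obtain ⟨r, rfl⟩ : ∃ r, q = r + 1 := ⟨q - 1, by omega⟩
    rw [Nat.add_sub_cancel]
    rcases hm.eq_or_lt with rfl | hm
    · have h4 := h2 rfl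
      rcases ha.eq_or_lt with rfl | ha
      · norm_num
        nlinarith
      · have := h12 ha
        norm_num
        nlinarith
    rcases (show 3 ≤ m from hm).eq_or_lt with rfl | hm
    · have h4 := h3 rfl
      rcases ha.eq_or_lt with rfl | ha
      · norm_num
        nlinarith
      · have := h12 ha
        norm_num
        nlinarith
    · have h6 : 16 * m ^ 2 + 2 ≤ 4 * 5 ^ (m - 1) := by
        have h7 : 4 ≤ m := hm
        clear * - h7
        induction m, h7 using Nat.le_induction with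
        | base => norm_num
        | succ k hk ih =>
          have h1 : k + 1 - 1 = (k - 1) + 1 := by omega
          have h2 : 4 * 5 ^ (k + 1 - 1) = 5 * (4 * 5 ^ (k - 1)) := by rw [h1, pow_succ]; ring
          rw [h2]
          nlinarith
      have h7 : 5 ^ (m - 1) * a ≤ (r + 1) ^ (m - 1) := by
        obtain ⟨j, hj⟩ : ∃ j, m - 1 = j + 1 := ⟨m - 2, by omega⟩
        rw [hj, pow_succ, pow_succ]
        calc 5 ^ j * 5 * a = 5 ^ j * (5 * a) := by ring
          _ ≤ (r + 1) ^ j * (r + 1) := Nat.mul_le_mul (Nat.pow_le_pow_left hq j) h5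
      calc 16 * m ^ 2 * a + 2 ≤ (16 * m ^ 2 + 2) * a := by nlinarith
        _ ≤ 4 * 5 ^ (m - 1) * a := Nat.mul_le_mul_right _ h6
        _ = 5 ^ (m - 1) * a * 4 := by ring
        _ ≤ (r + 1) ^ (m - 1) * r := Nat.mul_le_mul h7 (by omega)
  have h8 : 2 * a * (m + m) ^ 2 * 2 = 16 * m ^ 2 * a := by ring
  rw [Nat.lt_iff_add_one_le, Nat.le_div_iff_mul_le (by norm_num)]
  omega

section

variable {T : Type u} [Group T] [Finite T] [IsSimpleGroup T] {Y : Subgroup T} {n : ℕ} {S : Type u} [Group S]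
  [IsSimpleGroup S] {A : Subgroup (MulAut T)}

theorem Frame.psp (f : Frame T Y n S A) (tab : OrderTable.{u}) (hS : IsKnownSimple' S) {p : ℕ} (hp : p.Prime)
    (hp5 : 5 ≤ p) (hpY : ¬ p ∣ Nat.card Y) {F : Type} [Field F] [Fintype F] [CharP F p] {m : ℕ} (hm : 2 ≤ m)
    (e : T ≃* PSp m F) : Goal Y A f.conj_mem := by
  classical
  obtain ⟨a, ha, hF⟩ := exists_pow F p
  have hpa : 5 ≤ p ^ a := le_trans hp5 (Nat.le_self_pow (by omega) p)
  have hfact : Fact p.Prime := ⟨hp⟩
  have hodd : Odd (p ^ a) := Odd.pow (hp.odd_of_ne_two (by omega))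
  have hcard : fPSp.den m (Fintype.card F) * Nat.card T = fPSp.num m (Fintype.card F) := by
    rw [Nat.card_congr e.toEquiv]
    exact H285.TwoPart.psp_card (by omega)
  by_cases h25 : m = 2 ∧ Fintype.card F = 5
  · obtain ⟨rfl, h⟩ := h25
    rw [h, show fPSp.den 2 5 = 2 from by decide +kernel, show fPSp.num 2 5 = 9360000 from by decide +kernel] at hcard
    exact (f.false_of_nil tab hS (N := 4680000) (by omega) [(2, 6), (3, 2), (5, 4), (13, 1)]
      (by decide +kernel) (by norm_num) (by decide +kernel)).elim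
  by_cases h27 : m = 2 ∧ Fintype.card F = 7
  · obtain ⟨rfl, h⟩ := h27
    rw [h, show fPSp.den 2 7 = 2 from by decide +kernel, show fPSp.num 2 7 = 276595200 from by decide +kernel] at hcard
    exact (f.false_of_nil tab hS (N := 138297600) (by omega) [(2, 8), (3, 2), (5, 2), (7, 4)]
      (by decide +kernel) (by norm_num) (by decide +kernel)).elim
  by_cases h35 : m = 3 ∧ Fintype.card F = 5
  · obtain ⟨rfl, h⟩ := h35
    rw [h, show fPSp.den 3 5 = 2 from by decide +kernel, show fPSp.num 3 5 = 457002000000000 from by decide +kernel]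
      at hcard
    exact (f.false_of_nil tab hS (N := 228501000000000) (by omega) [(2, 9), (3, 4), (5, 9), (7, 1), (13, 1), (31, 1)]
      (by decide +kernel) (by norm_num) (by decide +kernel)).elim
  have h1 := S0814.result (F := F) p a ha hF m hm (fun _ => by omega)
  rw [if_neg (by omega), one_mul] at h1
  have ho : OutLe T (2 * a) := (f.outLe e h1).mono (Nat.mul_le_mul_right a (Nat.gcd_le_left _ (by norm_num)))
  have hquot : ∃ φ : Matrix.symplecticGroup (Fin m) F →* T,
      φ.ker ≤ Subgroup.center (Matrix.symplecticGroup (Fin m) F) := by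
    refine ⟨e.symm.toMonoidHom.comp (QuotientGroup.mk' _), fun g hg => ?_⟩
    have h2 : e.symm (QuotientGroup.mk g) = 1 := hg
    rw [EmbeddingLike.map_eq_one_iff] at h2
    exact (QuotientGroup.eq_one_iff g).1 h2
  obtain ⟨φ, hφ⟩ := hquot
  have hne : ringChar ℂ ≠ ringChar F := by
    rw [ringChar.eq F p, ringChar.eq_zero]
    omega
  refine f.goal_of_adj (Γ := Matrix.symplecticGroup (Fin m) F) e hp hpY (H131.ClassTwo.toS m F) ?_ ?_ ho ?_
  · intro z hz
    obtain ⟨c, -, hc⟩ := H131.ClassTwo.sp_center hz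
    exact ⟨c, hc⟩
  · intro x y hxy
    exact Subtype.ext hxy
  · refine bigDeg_of_ker φ hφ (b := (p ^ a) ^ (m - 1) * (p ^ a - 1) / 2)
      (fun k ρ hρ => S2393.result hF hodd m hm hne ρ hρ) ?_
    rw [Fintype.card_sum, Fintype.card_fin]
    have hne6 : ∀ k, ¬ (p ^ a = 2 * k) := by
      intro k hk
      rw [hk] at hodd
      exact (Nat.not_odd_iff_even.2 (even_two_mul k)) hodd
    have hne9 : ∀ k, ¬ (p ^ a = 3 * k) := by
      intro k hk
      have h3 : 3 ∣ p ^ a := Dvd.intro _ hk.symm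
      have h4 := Nat.prime_three.dvd_of_dvd_pow h3
      have h5 := (Nat.prime_dvd_prime_iff_eq Nat.prime_three hp).1 h4
      omega
    refine sp_arith hm ha hpa (five_mul_le hp5 ha) (fun h => twelve_mul_le hp5 h) ?_ ?_
    · intro h2
      rw [hF] at h25 h27
      have i6 := hne6 3
      have i8 := hne6 4
      have i10 := hne6 5
      have i9 := hne9 3
      have i5 : p ^ a ≠ 5 := fun h => h25 ⟨h2, h⟩
      have i7 : p ^ a ≠ 7 := fun h => h27 ⟨h2, h⟩
      omega
    · intro h3
      rw [hF] at h35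
      have i6 := hne6 3
      have i5 : p ^ a ≠ 5 := fun h => h35 ⟨h3, h⟩
      omega

end

end Cfsg.Agent.H324.Hall
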