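import Cfsg.Agent.H324.Hall.FamExc
import Cfsg.Agent.ChevalleyStructure.TwistedE6Rel
import Cfsg.Agent.H202.Descent
import Cfsg.Agent.S1071
import Cfsg.Agent.S2129
import Cfsg.Agent.S2130
import Cfsg.Agent.S2342

/-!
# `PartB` for the twisted groups `²E₆`, `³D₄` in characteristic at least five, `p ∤ |Y|`
-/

set_option autoImplicit false
set_option linter.unusedSectionVars false
set_option maxRecDepth 100000

open Module Cfsg

universe u

namespace Cfsg.Agent.H324.Hall

open Cfsg.Lie Cfsg.Agent.ChevalleyStructure.Elts Cfsg.Agent.ChevalleyStructure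
  Cfsg.Agent.ChevalleyStructure.TwistedU Cfsg.Agent.ChevalleyStructure.TwistedFix
  Cfsg.Agent.ChevalleyStructure.TwistedE6Sigma Cfsg.Agent.ChevalleyStructure.TwistedE6U
  Cfsg.Agent.ChevalleyStructure.GraphSymm

/-- The long root elements of `²E₆(q)`. -/
theorem long_mem {K : Type u} [Field K] [Fintype K] {q : ℕ} {φ : K →+* K} (hφ : ∀ t, φ t = t ^ q)
    (hφφ : ∀ t, φ (φ t) = t) {r : ℕ} (hr : r ∈ [71, 46, 47, 51, 53, 70, 69, 65, 63, 0]) (hr0 : r ≠ 0) {t : K}
    (ht : φ t = t) : xG hE6 r t ∈ twistedE6 K q := by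
  have h1 : ∀ s ∈ [71, 46, 47, 51, 53, 70, 69, 65, 63, 0], s ≠ 0 →
      s ∈ TwistedE6U.L.flatten ∧ s < 72 ∧ rho s = s ∧ eps s = 1 := by decide +kernel
  obtain ⟨h2, h3, h4, h5⟩ := h1 r hr hr0
  have h6 : xG hE6 r t ∈ rspan (X (K := K)) {k | k ∈ TwistedE6U.L.flatten} ⊓ fixS (sig symmE6 φ) := by
    refine ⟨mem_rspan (X (K := K)) h2 t, ?_⟩
    show sig symmE6 φ (xG hE6 r t) = xG hE6 r t
    have h7 := sig_X φ h3 t
    rw [h4, h5, ht, Int.cast_one, one_mul] at h7
    exact h7
  rw [← TwistedE6Rel.posUnipotent_inf_eq hφ hφφ] at h6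
  exact h6.2

section

variable {T : Type u} [Group T] [Finite T] [IsSimpleGroup T] {Y : Subgroup T} {n : ℕ} {S : Type u} [Group S]
  [IsSimpleGroup S] {A : Subgroup (MulAut T)}

theorem Frame.twE6 (f : Frame T Y n S A) {p : ℕ} (hp : p.Prime) (hp5 : 5 ≤ p) (hpY : ¬ p ∣ Nat.card Y) {K : Type}
    [Field K] [Fintype K] [CharP K p] {q : ℕ} (hq : IsPrimePow q) (hK : Fintype.card K = q ^ 2)
    (e : T ≃* ↥(twistedE6 K q)) : Goal Y A f.conj_mem := by
  classical
  obtain ⟨a', ha', hF⟩ := exists_pow K p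
  obtain ⟨a, -, hqa⟩ : ∃ a ≤ a', q = p ^ a := (Nat.dvd_prime_pow hp).1 (by
    rw [← hF, hK]; exact dvd_pow_self q (by norm_num))
  subst hqa
  have ha : 1 ≤ a := by
    by_contra h0
    have : a = 0 := by omega
    rw [this, pow_zero, one_pow] at hK
    have := Fintype.one_lt_card (α := K)
    omega
  have hpa : 5 ≤ p ^ a := le_trans hp5 (Nat.le_self_pow (by omega) p)
  have hfact : Fact p.Prime := ⟨hp⟩
  obtain ⟨φ, hφ⟩ := D4Fixed.exists_frob hq hK
  have hφφ : ∀ t, φ (φ t) = t := by
    intro t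
    rw [hφ, hφ, ← pow_mul, ← pow_two, ← hK, FiniteField.pow_card]
  let σ : K ≃+* K := RingEquiv.ofBijective φ (Finite.injective_iff_bijective.1 φ.injective)
  have hσφ : ∀ x, σ x = φ x := fun x => rfl
  have hσ : orderOf σ = 2 := by
    refine orderOf_eq_prime ?_ ?_
    · ext t
      show σ (σ t) = t
      rw [hσφ, hσφ, hφφ]
    · intro h1
      have h2 : ∀ t : K, t ^ (p ^ a) = t := by
        intro t
        have h3 := congrArg (fun τ : K ≃+* K => τ t) h1
        have h4 : φ t = t := h3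
        rwa [hφ] at h4
      have h5 := FiniteField.X_pow_card_sub_X_natDegree_eq K (show 1 < p ^ a by omega)
      have h6 : (Polynomial.X ^ (p ^ a) - Polynomial.X : Polynomial K) ≠ 0 :=
        FiniteField.X_pow_card_sub_X_ne_zero K (show 1 < p ^ a by omega)
      have h7 : (Finset.univ : Finset K).card ≤ (Polynomial.X ^ (p ^ a) - Polynomial.X : Polynomial K).natDegree := by
        refine Polynomial.card_le_degree_of_subset_roots ?_
        intro t _
        rw [Polynomial.mem_roots h6, Polynomial.IsRoot.def, Polynomial.eval_sub, Polynomial.eval_pow,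
          Polynomial.eval_X, h2, sub_self]
      rw [h5, Finset.card_univ, hK] at h7
      nlinarith
  let F0 : Subfield K := RingHom.eqLocusField (σ : K →+* K) (RingHom.id K)
  have hF0 : Fintype.card F0 = p ^ a := by
    have h1 := H202.Descent.card_fixed hσ
    rw [Nat.card_eq_fintype_card, hK, Nat.card_eq_fintype_card] at h1
    exact (Nat.pow_left_injective (by norm_num : (2 : ℕ) ≠ 0) h1).symm
  have hmem : ∀ r ∈ [71, 46, 47, 51, 53, 70, 69, 65, 63, 0], r ≠ 0 → ∀ t : F0,
      xG hE6 r (F0.subtype t) ∈ twistedE6 K (p ^ a) := fun r hr hr0 t => long_mem hφ hφφ hr hr0 t.2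
  have hxs : ∀ i : ℕ, ∀ t : F0, (if i < 4 then xG hE6 ([46, 47, 51, 53].getD i 0) (F0.subtype t) else 1) ∈
      twistedE6 K (p ^ a) := by
    intro i t
    split_ifs with hi
    · interval_cases i <;> exact hmem _ (by decide) (by decide) t
    · exact one_mem _
  have hys : ∀ i : ℕ, ∀ t : F0, (if i < 4 then xG hE6 ([70, 69, 65, 63].getD i 0) (F0.subtype t) else 1) ∈
      twistedE6 K (p ^ a) := by
    intro i t
    split_ifs with hi
    · interval_cases i <;> exact hmem _ (by decide) (by decide) t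
    · exact one_mem _
  have hc : ∀ i < 4, ((([1, -1, -1, 1] : List ℤ).getD i 0 : ℤ) : K) ≠ 0 := by
    intro i hi
    interval_cases i
    · exact cast_ne hp5 (Or.inl rfl)
    · exact cast_ne hp5 (Or.inr (Or.inl rfl))
    · exact cast_ne hp5 (Or.inr (Or.inl rfl))
    · exact cast_ne hp5 (Or.inl rfl)
  have H0 := tab_e6.heis hE6 hc
  have H1 : Heis (F := K) (fun t => xG hE6 71 t)
      (fun i t => if i < 4 then xG hE6 ([46, 47, 51, 53].getD i 0) t else 1)
      (fun i t => if i < 4 then xG hE6 ([70, 69, 65, 63].getD i 0) t else 1)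
      (fun i => ((([1, -1, -1, 1] : List ℤ).getD i 0 : ℤ) : K)) 4 :=
    { eps := H0.eps
      zero := fun i hi => by simp only [if_pos hi]; exact H0.zero i hi
      add := fun i hi u v => by simp only [if_pos hi]; exact H0.add i hi u v
      xx := fun i hi j hj hij u v => by simp only [if_pos hi, if_pos hj]; exact H0.xx i hi j hj hij u v
      xy := fun i hi j hj hij u v => by simp only [if_pos hi, if_pos hj]; exact H0.xy i hi j hj hij u v
      c := fun i hi u v => by simp only [if_pos hi]; exact H0.c i hi u v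
      zx := fun i hi u v => by simp only [if_pos hi]; exact H0.zx i hi u v
      zy := fun i hi u v => by simp only [if_pos hi]; exact H0.zy i hi u v }
  have H := (H1.restrict F0.subtype (twistedE6 K (p ^ a)) (fun t => hmem 71 (by decide) (by decide) t) hxs hys).map
    e.symm.toMonoidHom
  have h1 := S2130.result (K := K) p a (by rw [hK, ← pow_mul, mul_comm]) ha
  have ho : OutLe T (6 * a) := outLe_of_out e (by
    rw [h1]
    refine Nat.mul_le_mul_right a ?_
    have := Nat.gcd_le_left (p ^ a + 1) (show 0 < 3 by norm_num)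
    omega)
  refine f.goal_of_mat e hp hpY ((Units.coeHom (Matrix chevE6.Idx chevE6.Idx K)).comp (twistedE6 K (p ^ a)).subtype)
    ?_ ho ?_
  · intro u v huv
    exact Subtype.ext (Units.ext huv)
  · have hcard : Fintype.card chevE6.Idx = 78 := by
      rw [Fintype.card_sum, Fintype.card_fin, Fintype.card_fin]
      decide +kernel
    rw [hcard]
    refine H.bigDeg ?_ ?_ ⟨1, ?_⟩ ?_
    · show e.symm ⟨xG hE6 71 (F0.subtype 0), _⟩ = 1
      rw [EmbeddingLike.map_eq_one_iff]
      apply Subtype.ext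
      show xG hE6 71 (F0.subtype 0) = 1
      rw [map_zero, xG_zero]
    · intro u v
      show e.symm ⟨xG hE6 71 (F0.subtype (u + v)), _⟩ =
        e.symm ⟨xG hE6 71 (F0.subtype u), _⟩ * e.symm ⟨xG hE6 71 (F0.subtype v), _⟩
      rw [← map_mul]
      congr 1
      apply Subtype.ext
      show xG hE6 71 (F0.subtype (u + v)) = xG hE6 71 (F0.subtype u) * xG hE6 71 (F0.subtype v)
      rw [map_add, xG_add]
    · show e.symm ⟨xG hE6 71 (F0.subtype 1), _⟩ ≠ 1
      rw [Ne, EmbeddingLike.map_eq_one_iff]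
      intro h2
      have h3 : xG hE6 71 (F0.subtype 1) = 1 := congrArg Subtype.val h2
      rw [xG_eq_one_iff hE6 (by decide +kernel), map_one] at h3
      exact one_ne_zero h3
    · rw [hF0]
      have h5 := five_mul_le hp5 ha
      have hq4 := pow_five_mul (k := 3) hpa h5
      norm_num at hq4 ⊢
      omega

theorem Frame.twD4 (f : Frame T Y n S A) {p : ℕ} (hp : p.Prime) (hp5 : 5 ≤ p) (hpY : ¬ p ∣ Nat.card Y) {K : Type}
    [Field K] [Fintype K] [CharP K p] {q : ℕ} (hq : IsPrimePow q) (hK : Fintype.card K = q ^ 3)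
    (e : T ≃* ↥(twistedD4 K q)) : Goal Y A f.conj_mem := by
  classical
  obtain ⟨a', ha', hF⟩ := exists_pow K p
  obtain ⟨a, -, hqa⟩ : ∃ a ≤ a', q = p ^ a := (Nat.dvd_prime_pow hp).1 (by
    rw [← hF, hK]; exact dvd_pow_self q (by norm_num))
  subst hqa
  have ha : 1 ≤ a := by
    by_contra h0
    have : a = 0 := by omega
    rw [this, pow_zero, one_pow] at hK
    have := Fintype.one_lt_card (α := K)
    omega
  have hpa : 5 ≤ p ^ a := le_trans hp5 (Nat.le_self_pow (by omega) p)
  have hfact : Fact p.Prime := ⟨hp⟩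
  have hs : IsSimpleGroup ↥(twistedD4 K (p ^ a)) := (S1071.result hq hK).1
  have hperf : commutator ↥(twistedD4 K (p ^ a)) = ⊤ := by
    apply commutator_eq_top
    obtain ⟨u, v, huv⟩ := f.nc
    refine ⟨e u, e v, fun h => huv ?_⟩
    apply e.injective
    rw [map_mul, map_mul, h]
  have h1 := S2129.result (K := K) p a (by rw [hK, ← pow_mul, mul_comm]) ha
  have ho : OutLe T (3 * a) := outLe_of_out e (le_of_eq h1)
  refine f.goal_of_mat e hp hpY ((Units.coeHom (Matrix chevD4.Idx chevD4.Idx K)).comp (twistedD4 K (p ^ a)).subtype)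
    ?_ ho ?_
  · intro u v huv
    exact Subtype.ext (Units.ext huv)
  · have hcard : Fintype.card chevD4.Idx = 28 := by
      rw [Fintype.card_sum, Fintype.card_fin, Fintype.card_fin]
      decide +kernel
    rw [hcard]
    refine bigDeg_of_irr hperf e.symm.toMonoidHom ?_ fun k ρ hρ hk => ?_
    · obtain ⟨g, hg⟩ := exists_ne (1 : ↥(twistedD4 K (p ^ a)))
      refine ⟨g, fun h => hg ?_⟩
      apply e.symm.injective
      rw [map_one]
      exact h
    · refine lt_of_lt_of_le ?_ (S2342.result (p ^ a) hq hK k ρ hρ hk)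
      have h5 := five_mul_le hp5 ha
      have h6 : 25 * 24 + 1 ≤ (p ^ a) ^ 4 - (p ^ a) ^ 2 + 1 := by
        have h7 : (p ^ a) ^ 4 = (p ^ a) ^ 2 * (p ^ a) ^ 2 := by ring
        have h8 : 25 ≤ (p ^ a) ^ 2 := by nlinarith
        have h9 : 25 * (p ^ a) ^ 2 ≤ (p ^ a) ^ 4 := by
          rw [h7]; exact Nat.mul_le_mul_right _ h8
        omega
      calc 3 * a * 28 < 5 * a * (25 * 24 + 1) := by omega
        _ ≤ p ^ a * ((p ^ a) ^ 4 - (p ^ a) ^ 2 + 1) := Nat.mul_le_mul h5 h6

end

end Cfsg.Agent.H324.Hall
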