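import Cfsg.Agent.H324.Hall.Spor

/-!
# `PartB` for the sporadic groups and the Tits group: all cases
-/

set_option autoImplicit false
set_option linter.unusedSectionVars false
set_option maxRecDepth 100000

open Module Cfsg

universe u

namespace Cfsg.Agent.H324.Hall

open Cfsg.Agent.OrdDiv

variable {T : Type u} [Group T] [Finite T] [IsSimpleGroup T] {Y : Subgroup T} {n : ℕ} {S : Type u} [Group S]
  [IsSimpleGroup S] {A : Subgroup (MulAut T)}

theorem Frame.tits (f : Frame T Y n S A) (tab : OrderTable.{u}) (hS : IsKnownSimple' S) (h : Lie.IsoTits T) :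
    Goal Y A f.conj_mem := by
  exact (f.false_of_nil tab hS (tab.spor T (.tits, 17971200) (by decide) h)
    [(2, 11), (3, 3), (5, 2), (13, 1)] (by decide +kernel) (by norm_num) (by decide +kernel)).elim

theorem Frame.spor (f : Frame T Y n S A) (tab : OrderTable.{u}) (hS : IsKnownSimple' S) (h : IsSporadicGroup T) :
    Goal Y A f.conj_mem := by
  rcases h with h | h | h | h | h | h | h | h | h | h | h | h | h | h | h | h | h | h | h | h | h | h | h | h | h | h
  · exact (f.false_of_nil tab hS (tab.spor T (.m11, 7920) (by decide) h)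
      [(2, 4), (3, 2), (5, 1), (11, 1)] (by decide +kernel) (by norm_num) (by decide +kernel)).elim
  · exact (f.false_of_nil tab hS (tab.spor T (.m12, 95040) (by decide) h)
      [(2, 6), (3, 3), (5, 1), (11, 1)] (by decide +kernel) (by norm_num) (by decide +kernel)).elim
  · exact (f.false_of_nil tab hS (tab.spor T (.m22, 443520) (by decide) h)
      [(2, 7), (3, 2), (5, 1), (7, 1), (11, 1)] (by decide +kernel) (by norm_num) (by decide +kernel)).elim
  · exact f.m23 tab hS h
  · exact (f.false_of_nil tab hS (tab.spor T (.m24, 244823040) (by decide) h)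
      [(2, 10), (3, 3), (5, 1), (7, 1), (11, 1), (23, 1)] (by decide +kernel) (by norm_num) (by decide +kernel)).elim
  · exact (f.j1 tab hS h).elim
  · exact (f.false_of_nil tab hS (tab.spor T (.j2, 604800) (by decide) h)
      [(2, 7), (3, 3), (5, 2), (7, 1)] (by decide +kernel) (by norm_num) (by decide +kernel)).elim
  · exact (f.false_of_nil tab hS (tab.spor T (.j3, 50232960) (by decide) h)
      [(2, 7), (3, 5), (5, 1), (17, 1), (19, 1)] (by decide +kernel) (by norm_num) (by decide +kernel)).elim
  · exact (f.false_of_nil tab hS (tab.spor T (.j4, 86775571046077562880) (by decide) h)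
      [(2, 21), (3, 3), (5, 1), (7, 1), (11, 3), (23, 1), (29, 1), (31, 1), (37, 1), (43, 1)] (by decide +kernel) (by norm_num) (by decide +kernel)).elim
  · exact (f.false_of_nil tab hS (tab.spor T (.co1, 4157776806543360000) (by decide) h)
      [(2, 21), (3, 9), (5, 4), (7, 2), (11, 1), (13, 1), (23, 1)] (by decide +kernel) (by norm_num) (by decide +kernel)).elim
  · exact (f.false_of_nil tab hS (tab.spor T (.co2, 42305421312000) (by decide) h)
      [(2, 18), (3, 6), (5, 3), (7, 1), (11, 1), (23, 1)] (by decide +kernel) (by norm_num) (by decide +kernel)).elim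
  · exact (f.false_of_nil tab hS (tab.spor T (.co3, 495766656000) (by decide) h)
      [(2, 10), (3, 7), (5, 3), (7, 1), (11, 1), (23, 1)] (by decide +kernel) (by norm_num) (by decide +kernel)).elim
  · exact (f.false_of_nil tab hS (tab.spor T (.mcl, 898128000) (by decide) h)
      [(2, 7), (3, 6), (5, 3), (7, 1), (11, 1)] (by decide +kernel) (by norm_num) (by decide +kernel)).elim
  · exact (f.false_of_nil tab hS (tab.spor T (.hs, 44352000) (by decide) h)
      [(2, 9), (3, 2), (5, 3), (7, 1), (11, 1)] (by decide +kernel) (by norm_num) (by decide +kernel)).elim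
  · exact (f.false_of_nil tab hS (tab.spor T (.suz, 448345497600) (by decide) h)
      [(2, 13), (3, 7), (5, 2), (7, 1), (11, 1), (13, 1)] (by decide +kernel) (by norm_num) (by decide +kernel)).elim
  · exact (f.false_of_nil tab hS (tab.spor T (.he, 4030387200) (by decide) h)
      [(2, 10), (3, 3), (5, 2), (7, 3), (17, 1)] (by decide +kernel) (by norm_num) (by decide +kernel)).elim
  · exact (f.false_of_nil tab hS (tab.spor T (.ru, 145926144000) (by decide) h)
      [(2, 14), (3, 3), (5, 3), (7, 1), (13, 1), (29, 1)] (by decide +kernel) (by norm_num) (by decide +kernel)).elim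
  · exact (f.false_of_nil tab hS (tab.spor T (.on, 460815505920) (by decide) h)
      [(2, 9), (3, 4), (5, 1), (7, 3), (11, 1), (19, 1), (31, 1)] (by decide +kernel) (by norm_num) (by decide +kernel)).elim
  · exact (f.false_of_nil tab hS (tab.spor T (.ly, 51765179004000000) (by decide) h)
      [(2, 8), (3, 7), (5, 6), (7, 1), (11, 1), (31, 1), (37, 1), (67, 1)] (by decide +kernel) (by norm_num) (by decide +kernel)).elim
  · exact (f.false_of_nil tab hS (tab.spor T (.fi22, 64561751654400) (by decide) h)
      [(2, 17), (3, 9), (5, 2), (7, 1), (11, 1), (13, 1)] (by decide +kernel) (by norm_num) (by decide +kernel)).elim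
  · exact (f.false_of_nil tab hS (tab.spor T (.fi23, 4089470473293004800) (by decide) h)
      [(2, 18), (3, 13), (5, 2), (7, 1), (11, 1), (13, 1), (17, 1), (23, 1)] (by decide +kernel) (by norm_num) (by decide +kernel)).elim
  · exact (f.false_of_nil tab hS (tab.spor T (.fi24, 1255205709190661721292800) (by decide) h)
      [(2, 21), (3, 16), (5, 2), (7, 3), (11, 1), (13, 1), (17, 1), (23, 1), (29, 1)] (by decide +kernel) (by norm_num) (by decide +kernel)).elim
  · exact (f.false_of_nil tab hS (tab.spor T (.hn, 273030912000000) (by decide) h)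
      [(2, 14), (3, 6), (5, 6), (7, 1), (11, 1), (19, 1)] (by decide +kernel) (by norm_num) (by decide +kernel)).elim
  · exact (f.false_of_nil tab hS (tab.spor T (.th, 90745943887872000) (by decide) h)
      [(2, 15), (3, 10), (5, 3), (7, 2), (13, 1), (19, 1), (31, 1)] (by decide +kernel) (by norm_num) (by decide +kernel)).elim
  · exact (f.false_of_nil tab hS (tab.spor T (.b, 4154781481226426191177580544000000) (by decide) h)
      [(2, 41), (3, 13), (5, 6), (7, 2), (11, 1), (13, 1), (17, 1), (19, 1), (23, 1), (31, 1), (47, 1)] (by decide +kernel) (by norm_num) (by decide +kernel)).elim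
  · exact (f.false_of_nil tab hS (tab.spor T (.m, 808017424794512875886459904961710757005754368000000000) (by decide) h)
      [(2, 46), (3, 20), (5, 9), (7, 6), (11, 2), (13, 3), (17, 1), (19, 1), (23, 1), (29, 1), (31, 1), (41, 1), (47, 1), (59, 1), (71, 1)] (by decide +kernel) (by norm_num) (by decide +kernel)).elim

end Cfsg.Agent.H324.Hall
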