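import Cfsg.Agent.H324.Hall.Alt
import Cfsg.Agent.H324.Hall.CharThree
import Cfsg.Agent.H324.Hall.SporAll
import Cfsg.Agent.PreUniq.Cases

/-!
# `PartB`
-/

set_option autoImplicit false
set_option linter.unusedSectionVars false

open Module Cfsg

universe u

namespace Cfsg.Agent.H324.Hall

/-- **`PartB`**, from the table of the orders, the odd order theorem and the classification. -/
theorem partB (tab : OrdDiv.OrderTable.{u})
    (hFT : ∀ (X : Type u) [Group X] [Finite X], Odd (Nat.card X) → Group.IsSolvable X)
    (hK : ∀ (X : Type u) [Group X] [Finite X] [IsSimpleGroup X], IsKnownSimple' X) : PartB.{u} := by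
  refine partB_of fun T _ _ _ Y n S _ _ A f => ?_
  have hfin : Finite S := f.finiteS
  have hS : IsKnownSimple' S := hK S
  rcases PreUniq.known_cases (hK T) with h | ⟨m, hm, ⟨e⟩⟩ | ⟨p, hp, h⟩ | h | h
  · exfalso
    have : Fact (Nat.card T).Prime := ⟨h⟩
    have : IsCyclic T := isCyclic_of_prime_card (p := Nat.card T) rfl
    obtain ⟨a, b, hab⟩ := f.nc
    exact hab ((IsCyclic.isMulCommutative (α := T)).is_comm.comm a b)
  · exact f.alt hFT hm e
  · by_cases hpY : p ∣ Nat.card Y
    · exact (f.lieDvd hp h hpY).elim
    · rcases Nat.lt_or_ge p 5 with h5 | h5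
      · have h2 := hp.two_le
        interval_cases p
        · exact absurd (f.two_dvd hFT) hpY
        · exact (f.char_three hFT h hpY).elim
        · exact absurd hp (by norm_num)
      · exact f.lie5 tab hS hp h5 h
  · exact f.tits tab hS h
  · exact f.spor tab hS h

end Cfsg.Agent.H324.Hall
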