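import Cfsg.Agent.H324.Hall.Core
import Cfsg.Agent.H393.Core

/-!
# The setting of `PartB`

`Set T Y n S A`: the hypotheses; elementary consequences.
-/

set_option autoImplicit false
set_option linter.unusedSectionVars false

open Module Cfsg

universe u

namespace Cfsg.Agent.H324.Hall

/-- The hypotheses of `PartB`. -/
structure Frame (T : Type u) [Group T] (Y : Subgroup T) (n : ℕ) (S : Type u) [Group S] (A : Subgroup (MulAut T)) :
    Prop where
  nc : ∃ a b : T, a * b ≠ b * a
  ne_bot : Y ≠ ⊥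
  ne_top : Y ≠ ⊤
  cop : (Nat.card Y).Coprime Y.index
  ncS : ∃ a b : S, a * b ≠ b * a
  equiv : Nonempty (Y ≃* (Fin n → S))
  conj_mem : ∀ y ∈ Y, MulAut.conj y ∈ A
  of_conj_mem : ∀ t : T, MulAut.conj t ∈ A → t ∈ Y
  stable : ∀ a ∈ A, ∀ y ∈ Y, a y ∈ Y
  copA : (Nat.card A).Coprime Y.index

theorem partB_of (h : ∀ (T : Type u) [Group T] [Finite T] [IsSimpleGroup T] (Y : Subgroup T) (n : ℕ) (S : Type u)
    [Group S] [IsSimpleGroup S] (A : Subgroup (MulAut T)) (f : Frame T Y n S A), Goal Y A f.conj_mem) :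
    PartB.{u} := by
  intro T _ _ _ hT Y h1 h2 h3 n S _ _ hS e A hA1 hA2 hA3 hA4
  exact h T Y n S A ⟨hT, h1, h2, h3, hS, e, hA1, hA2, hA3, hA4⟩

namespace Frame

variable {T : Type u} [Group T] [Finite T] [IsSimpleGroup T] {Y : Subgroup T} {n : ℕ} {S : Type u} [Group S]
  [IsSimpleGroup S] {A : Subgroup (MulAut T)} (f : Frame T Y n S A)

include f

theorem pos : n ≠ 0 := by
  rintro rfl
  obtain ⟨e⟩ := f.equiv
  apply f.ne_bot
  rw [Subgroup.eq_bot_iff_forall]
  intro x hx
  have h1 : e ⟨x, hx⟩ = e 1 := by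
    funext i
    exact i.elim0
  exact congrArg Subtype.val (e.injective h1)

theorem finiteS : Finite S := by
  obtain ⟨e⟩ := f.equiv
  have h0 : 0 < n := Nat.pos_of_ne_zero f.pos
  refine Finite.of_injective (fun s : S => e.symm (fun _ => s)) fun a b hab => ?_
  exact congrFun (e.symm.injective hab) ⟨0, h0⟩

theorem card : Nat.card Y = Nat.card S ^ n := by
  obtain ⟨e⟩ := f.equiv
  rw [Nat.card_congr e.toEquiv, Nat.card_fun, Nat.card_fin]

theorem card_mul : Nat.card S ^ n * Y.index = Nat.card T := by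
  rw [← f.card]
  exact Subgroup.card_mul_index Y

theorem dvd : Nat.card S ∣ Nat.card T :=
  (dvd_pow_self _ f.pos).trans (Dvd.intro _ f.card_mul)

/-- A normal `r`-subgroup of `Y` is trivial. -/
theorem normal_eq_bot {r : ℕ} (M : Subgroup T) (hMY : M ≤ Y) (hM : IsPGroup r M) (hr : r.Prime)
    (hn : Y ≤ Subgroup.normalizer (M : Set T)) : M = ⊥ := by
  obtain ⟨e⟩ := f.equiv
  have : Finite S := f.finiteS
  have : Fact r.Prime := ⟨hr⟩
  have hnorm : (M.subgroupOf Y).Normal := by
    rw [Subgroup.normal_subgroupOf_iff_le_normalizer hMY]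
    exact hn
  have hall : ∀ i : Fin n, ∀ y ∈ M.subgroupOf Y, e y i = 1 := by
    intro i
    let π : Y →* S := (Pi.evalMonoidHom (fun _ : Fin n => S) i).comp e.toMonoidHom
    have hπ : Function.Surjective π := by
      intro s
      exact ⟨e.symm (fun _ => s), by simp [π]⟩
    have h1 : ((M.subgroupOf Y).map π).Normal := hnorm.map π hπ
    rcases h1.eq_bot_or_eq_top with h2 | h2
    · intro y hy
      have h3 : π y ∈ (M.subgroupOf Y).map π := ⟨y, hy, rfl⟩
      rw [h2, Subgroup.mem_bot] at h3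
      exact h3
    · exfalso
      have h3 : IsPGroup r (M.subgroupOf Y) := hM.comap_of_injective Y.subtype Y.subtype_injective
      have h4 : IsPGroup r ((M.subgroupOf Y).map π) := h3.map π
      rw [h2] at h4
      have h5 : IsPGroup r S := h4.of_equiv Subgroup.topEquiv
      have hnt : Nontrivial S := inferInstance
      have h6 : Nontrivial (Subgroup.center S) := h5.center_nontrivial
      rcases (inferInstance : (Subgroup.center S).Normal).eq_bot_or_eq_top with h7 | h7
      · rw [h7] at h6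
        exact not_subsingleton (⊥ : Subgroup S) inferInstance
      · obtain ⟨a, b, hab⟩ := f.ncS
        apply hab
        have ha : a ∈ Subgroup.center S := by rw [h7]; trivial
        exact (Subgroup.mem_center_iff.1 ha b).symm
  rw [Subgroup.eq_bot_iff_forall]
  intro x hx
  have h1 : e ⟨x, hMY hx⟩ = e 1 := by
    funext i
    rw [hall i ⟨x, hMY hx⟩ (Subgroup.mem_subgroupOf.2 hx), map_one]
    rfl
  exact congrArg Subtype.val (e.injective h1)

/-- **Defining characteristic.** -/
theorem false_of_noBad {p : ℕ} (h : H393.NoBad p p T) (hp : p.Prime) (hpY : p ∣ Nat.card Y) : False := by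
  have h1 : ¬ p ∣ Y.index := by
    intro h2
    have h3 := Nat.dvd_gcd hpY h2
    rw [f.cop] at h3
    exact hp.one_lt.ne' (Nat.dvd_one.1 h3)
  obtain ⟨r, hr, M, hMY, hM1, hM, hn⟩ := h Y f.ne_top h1 h1
  exact hM1 (f.normal_eq_bot M hMY hM hr hn)

theorem not_solvable : ¬ Group.IsSolvable Y := by
  intro hs
  obtain ⟨e⟩ := f.equiv
  have h0 : 0 < n := Nat.pos_of_ne_zero f.pos
  let π : Y →* S := (Pi.evalMonoidHom (fun _ : Fin n => S) ⟨0, h0⟩).comp e.toMonoidHom
  have hπ : Function.Surjective π := by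
    intro s
    exact ⟨e.symm (fun _ => s), by simp [π]⟩
  have h1 : Group.IsSolvable S := solvable_of_surjective hπ
  obtain ⟨a, b, hab⟩ := f.ncS
  exact hab ((IsSimpleGroup.comm_iff_isSolvable.2 h1) a b)

/-- `|Y|` is even, by the odd order theorem. -/
theorem two_dvd (hFT : ∀ (X : Type u) [Group X] [Finite X], Odd (Nat.card X) → Group.IsSolvable X) :
    2 ∣ Nat.card Y := by
  by_contra h
  exact f.not_solvable (hFT Y (Nat.not_even_iff_odd.1 fun h' => h h'.two_dvd))

theorem two_dvd_S (hFT : ∀ (X : Type u) [Group X] [Finite X], Odd (Nat.card X) → Group.IsSolvable X) :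
    2 ∣ Nat.card S := by
  have h := f.two_dvd hFT
  rw [f.card] at h
  exact Nat.prime_two.dvd_of_dvd_pow h

end Frame

end Cfsg.Agent.H324.Hall
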