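import Cfsg.Agent.H324.Hall.Adj
import Cfsg.Agent.H121.Wt

/-!
# Heisenberg groups in representations

A representation in which the centre `z` of a Heisenberg group `⟨z, x_i, y_i⟩` over `F` (`i < k`) acts nontrivially
has degree at least `|F| ^ k`.
-/

set_option autoImplicit false
set_option linter.unusedSectionVars false

open Module Cfsg

universe u

namespace Cfsg.Agent.H324.Hall

open Cfsg.Agent.H121.Wt

section

variable {F : Type*} [Field F] [Fintype F]

theorem exists_shift {φ : AddChar F ℂ} (hφ : φ ≠ 1) (ψ : AddChar F ℂ) : ∃ d : F, ∀ a, ψ a = φ (d * a) := by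
  classical
  have hinj : Function.Injective (fun d : F => AddChar.mulShift φ d) :=
    fun a b h => AddChar.to_mulShift_inj_of_isPrimitive (AddChar.IsPrimitive.of_ne_one hφ) h
  have hb : Function.Bijective (fun d : F => AddChar.mulShift φ d) := by
    rw [Fintype.bijective_iff_injective_and_card]
    exact ⟨hinj, (AddChar.card_eq (α := F)).symm⟩
  obtain ⟨d, hd⟩ := hb.2 ψ
  exact ⟨d, fun a => by rw [← hd, AddChar.mulShift_apply]⟩

/-- The data of a Heisenberg group of rank `k` over `F`. -/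
structure Heis {G : Type*} [Group G] (z : F → G) (x y : ℕ → F → G) (ε : ℕ → F) (k : ℕ) : Prop where
  eps : ∀ i < k, ε i ≠ 0
  zero : ∀ i < k, x i 0 = 1
  add : ∀ i < k, ∀ a b, x i (a + b) = x i a * x i b
  xx : ∀ i < k, ∀ j < k, i ≠ j → ∀ a b, x i a * x j b = x j b * x i a
  xy : ∀ i < k, ∀ j < k, i ≠ j → ∀ a b, x i a * y j b = y j b * x i a
  c : ∀ i < k, ∀ a b, x i a * y i b = z (ε i * a * b) * y i b * x i a
  zx : ∀ i < k, ∀ a b, z a * x i b = x i b * z a
  zy : ∀ i < k, ∀ a b, z a * y i b = y i b * z a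

variable {G : Type*} [Group G] {z : F → G} {x y : ℕ → F → G} {ε : ℕ → F}

theorem Heis.pred {k : ℕ} (H : Heis z x y ε (k + 1)) : Heis z x y ε k where
  eps i hi := H.eps i (by omega)
  zero i hi := H.zero i (by omega)
  add i hi := H.add i (by omega)
  xx i hi j hj := H.xx i (by omega) j (by omega)
  xy i hi j hj := H.xy i (by omega) j (by omega)
  c i hi := H.c i (by omega)
  zx i hi := H.zx i (by omega)
  zy i hi := H.zy i (by omega)

variable {V : Type*} [AddCommGroup V] [Module ℂ V] [FiniteDimensional ℂ V] (ρ : Representation ℂ G V)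

theorem Heis.le_finrank {k : ℕ} (H : Heis z x y ε k) {φ : AddChar F ℂ} (hφ : φ ≠ 1) (U : Submodule ℂ V) (hU : U ≠ ⊥)
    (hUz : ∀ v ∈ U, ∀ a, ρ (z a) v = φ a • v) (hUx : ∀ i < k, ∀ a, ∀ v ∈ U, ρ (x i a) v ∈ U)
    (hUy : ∀ i < k, ∀ a, ∀ v ∈ U, ρ (y i a) v ∈ U) : Fintype.card F ^ k ≤ finrank ℂ U := by
  classical
  induction k generalizing U with
  | zero =>
    rw [pow_zero]
    have h1 : finrank ℂ U ≠ 0 := fun h => hU (Submodule.finrank_eq_zero.1 h)
    omega
  | succ k ih =>
    have hk : k < k + 1 := Nat.lt_succ_self k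
    let R : F → Module.End ℂ U := fun a => (ρ (x k a)).restrict (hUx k hk a)
    have hR : IsAct R :=
      { zero := by
          ext v
          show ρ (x k 0) v = v
          rw [H.zero k hk, map_one]; rfl
        add := fun a b => by
          ext v
          show ρ (x k (a + b)) v = ρ (x k a) (ρ (x k b) v)
          rw [H.add k hk, map_mul]; rfl }
    let W : AddChar F ℂ → Submodule ℂ V := fun ψ => (wt R ψ).map U.subtype
    have hW : ∀ ψ v, v ∈ W ψ ↔ v ∈ U ∧ ∀ a, ρ (x k a) v = ψ a • v := by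
      intro ψ v
      constructor
      · rintro ⟨w, hw, rfl⟩
        exact ⟨w.2, fun a => congrArg Subtype.val (hw a)⟩
      · rintro ⟨hv, h⟩
        exact ⟨⟨v, hv⟩, fun a => Subtype.ext (h a), rfl⟩
    have hfin : ∀ ψ, finrank ℂ (W ψ) = finrank ℂ (wt R ψ) := fun ψ => Submodule.finrank_map_subtype_eq U (wt R ψ)
    have hsum : ∑ ψ, finrank ℂ (W ψ) = finrank ℂ U := by
      rw [← sum_finrank hR]
      exact Finset.sum_congr rfl fun ψ _ => hfin ψ
    -- a nonzero weight space
    obtain ⟨ψ0, hψ0⟩ : ∃ ψ, W ψ ≠ ⊥ := by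
      by_contra hcon
      push Not at hcon
      apply hU
      rw [← Submodule.finrank_eq_zero (R := ℂ), ← hsum]
      exact Finset.sum_eq_zero fun ψ _ => by rw [hcon ψ, finrank_bot]
    -- all weight spaces are nonzero
    have hall : ∀ ψ, W ψ ≠ ⊥ := by
      intro ψ
      obtain ⟨v, hv, hv0⟩ := (Submodule.ne_bot_iff _).1 hψ0
      obtain ⟨hvU, hvx⟩ := (hW ψ0 v).1 hv
      obtain ⟨d, hd⟩ := exists_shift hφ (ψ * ψ0⁻¹)
      have heps := H.eps k hk
      let b : F := (ε k)⁻¹ * d
      rw [Submodule.ne_bot_iff]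
      refine ⟨ρ (y k b) v, (hW ψ _).2 ⟨hUy k hk b v hvU, fun a => ?_⟩, fun h0 => hv0 ?_⟩
      · have h1 : ρ (x k a) (ρ (y k b) v) = ρ (z (ε k * a * b)) (ρ (y k b) (ρ (x k a) v)) := by
          have h2 := congrArg (fun g => ρ g v) (H.c k hk a b)
          simp only [map_mul, Module.End.mul_apply] at h2
          exact h2
        rw [h1, hvx a, map_smul, map_smul, hUz _ (hUy k hk b v hvU), smul_smul]
        congr 1
        have h3 := hd a
        rw [AddChar.mul_apply, AddChar.inv_apply] at h3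
        have h4 : ε k * a * b = d * a := by
          show ε k * a * ((ε k)⁻¹ * d) = d * a
          field_simp
        rw [h4, ← h3]
        have h5 : ψ0 (-a) * ψ0 a = 1 := neg_mul_self ψ0 a
        calc ψ0 a * (ψ a * ψ0 (-a)) = ψ a * (ψ0 (-a) * ψ0 a) := by ring
          _ = ψ a := by rw [h5, mul_one]
      · have h1 : ρ (y k b)⁻¹ (ρ (y k b) v) = v := by
          rw [← Module.End.mul_apply, ← map_mul, inv_mul_cancel, map_one]; rfl
        rw [← h1, h0, map_zero]
    have hle : ∀ ψ, Fintype.card F ^ k ≤ finrank ℂ (W ψ) := by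
      intro ψ
      refine ih H.pred (W ψ) (hall ψ) (fun v hv a => hUz v ((hW ψ v).1 hv).1 a) ?_ ?_
      · intro i hi a v hv
        obtain ⟨hvU, hvx⟩ := (hW ψ v).1 hv
        refine (hW ψ _).2 ⟨hUx i (by omega) a v hvU, fun b => ?_⟩
        rw [← Module.End.mul_apply, ← map_mul, H.xx k hk i (by omega) (by omega) b a, map_mul, Module.End.mul_apply,
          hvx b, map_smul]
      · intro i hi a v hv
        obtain ⟨hvU, hvx⟩ := (hW ψ v).1 hv
        refine (hW ψ _).2 ⟨hUy i (by omega) a v hvU, fun b => ?_⟩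
        rw [← Module.End.mul_apply, ← map_mul, H.xy k hk i (by omega) (by omega) b a, map_mul, Module.End.mul_apply,
          hvx b, map_smul]
    have hcard : Fintype.card (AddChar F ℂ) = Fintype.card F := AddChar.card_eq
    calc Fintype.card F ^ (k + 1) = ∑ _ψ : AddChar F ℂ, Fintype.card F ^ k := by
          rw [Finset.sum_const, Finset.card_univ, hcard, smul_eq_mul, pow_succ, mul_comm]
      _ ≤ ∑ ψ, finrank ℂ (W ψ) := Finset.sum_le_sum fun ψ _ => hle ψ
      _ = finrank ℂ U := hsum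

/-- **The bound.** -/
theorem Heis.bigDeg {T : Type*} [Group T] [IsSimpleGroup T] {z : F → T} {x y : ℕ → F → T} {k : ℕ}
    (H : Heis z x y ε k) (hz0 : z 0 = 1) (hz : ∀ a b, z (a + b) = z a * z b) (hz1 : ∃ a, z a ≠ 1) {d : ℕ}
    (hd : d < Fintype.card F ^ k) : BigDeg T d := by
  classical
  refine bigDeg_of_rep fun m ρ hρ => ?_
  -- `ρ` is faithful
  have hker : ρ.ker = ⊥ := by
    rcases (inferInstance : ρ.ker.Normal).eq_bot_or_eq_top with h1 | h1
    · exact h1
    · exfalso
      obtain ⟨g, hg⟩ := hρ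
      apply hg
      have : g ∈ ρ.ker := by rw [h1]; trivial
      exact this
  obtain ⟨a, ha⟩ := hz1
  have ha' : ρ (z a) ≠ 1 := by
    intro h
    apply ha
    have h1 : z a ∈ ρ.ker := h
    rwa [hker, Subgroup.mem_bot] at h1
  let R : F → Module.End ℂ (Fin m → ℂ) := fun a => ρ (z a)
  have hR : IsAct R := ⟨by show ρ (z 0) = 1; rw [hz0, map_one], fun a b => by show ρ (z (a + b)) = _; rw [hz, map_mul]⟩
  obtain ⟨φ, hφ, hφ1⟩ : ∃ φ : AddChar F ℂ, φ ≠ 1 ∧ wt R φ ≠ ⊥ := by
    by_contra hcon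
    push Not at hcon
    have hs := sum_finrank hR
    have h1 : finrank ℂ (wt R 1) = finrank ℂ (Fin m → ℂ) := by
      rw [← hs]
      symm
      apply Finset.sum_eq_single_of_mem (1 : AddChar F ℂ) (Finset.mem_univ _)
      intro φ _ hφ
      rw [hcon φ hφ, finrank_bot]
    have h2 := Submodule.eq_top_of_finrank_eq h1
    apply ha'
    refine LinearMap.ext fun v => ?_
    have h3 : v ∈ wt R 1 := by rw [h2]; trivial
    have h4 := h3 a
    rw [AddChar.one_apply, one_smul] at h4
    exact h4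
  have h1 := H.le_finrank ρ hφ (wt R φ) hφ1 (fun v hv a => hv a)
    (fun i hi a v hv b => by
      show ρ (z b) (ρ (x i a) v) = φ b • ρ (x i a) v
      have hv' : ρ (z b) v = φ b • v := hv b
      rw [← Module.End.mul_apply, ← map_mul, H.zx i hi, map_mul, Module.End.mul_apply, hv', map_smul])
    (fun i hi a v hv b => by
      show ρ (z b) (ρ (y i a) v) = φ b • ρ (y i a) v
      have hv' : ρ (z b) v = φ b • v := hv b
      rw [← Module.End.mul_apply, ← map_mul, H.zy i hi, map_mul, Module.End.mul_apply, hv', map_smul])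
  have h2 := Submodule.finrank_le (wt R φ)
  rw [Module.finrank_fin_fun] at h2
  omega

end

end Cfsg.Agent.H324.Hall
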