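import Cfsg.Agent.H324.Hall.FamLin
import Cfsg.Agent.H324.Hall.FamSp
import Cfsg.Agent.H324.Hall.FamSU
import Cfsg.Agent.H324.Hall.FamOrth
import Cfsg.Agent.H324.Hall.FamExc
import Cfsg.Agent.H324.Hall.FamTw
import Cfsg.Agent.H393.LieNoThree

/-!
# `PartB` for the groups of Lie type in characteristic at least five
-/

set_option autoImplicit false
set_option linter.unusedSectionVars false

open Module Cfsg

universe u

namespace Cfsg.Agent.H324.Hall

variable {T : Type u} [Group T] [Finite T] [IsSimpleGroup T] {Y : Subgroup T} {n : ℕ} {S : Type u} [Group S]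
  [IsSimpleGroup S] {A : Subgroup (MulAut T)}

/-- Characteristic `p ≥ 5`, `p ∤ |Y|`. -/
theorem Frame.lie5' (f : Frame T Y n S A) (tab : OrdDiv.OrderTable.{u}) (hS : IsKnownSimple' S) {p : ℕ}
    (hp : p.Prime) (hp5 : 5 ≤ p) (hpY : ¬ p ∣ Nat.card Y) (h : IsLieTypeChar p T) : Goal Y A f.conj_mem := by
  rcases h with h | h | h | h | h | h | h | h | h | h | h
  · obtain ⟨F, _, _, _, m, hm, -, ⟨e⟩⟩ := h
    rcases Nat.lt_or_ge m 3 with h3 | h3
    · obtain rfl : m = 2 := by omega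
      exact f.psl_two tab hS hp hp5 hpY e
    · exact f.psl hp hp5 hpY h3 e
  · obtain ⟨F, _, _, _, m, hm, -, ⟨e⟩⟩ := h
    exact f.psp tab hS hp hp5 hpY hm e
  · obtain ⟨F, _, _, _, m, q, hq, hm, -, ⟨e⟩⟩ := h
    exact f.psu tab hS hp hp5 hpY hq hm e
  · obtain ⟨F, _, _, _, m, hm, -, ⟨e⟩⟩ := h
    exact f.odd hp hp5 hpY hm e
  · obtain ⟨F, _, _, _, m, hm, ⟨e⟩⟩ := h
    exact f.plus hp hp5 hpY hm e
  · obtain ⟨F, _, _, _, m, c, d, hm, hcd, ⟨e⟩⟩ := h
    exact f.minus hp hp5 hpY hm c d hcd e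
  · exact f.excChev hp hp5 hpY h
  · obtain ⟨K, _, _, _, q, hq, h⟩ := h
    rcases h with ⟨hK, ⟨e⟩⟩ | ⟨hK, ⟨e⟩⟩
    · exact f.twE6 hp hp5 hpY hq hK e
    · exact f.twD4 hp hp5 hpY hq hK e
  · omega
  · omega
  · omega

/-- Characteristic dividing `|Y|`. -/
theorem Frame.lieDvd (f : Frame T Y n S A) {p : ℕ} (hp : p.Prime) (h : IsLieTypeChar p T) (hpY : p ∣ Nat.card Y) :
    False :=
  f.false_of_noBad (H393.noBad_of_lie hp h) hp hpY

/-- Characteristic `p ≥ 5`. -/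
theorem Frame.lie5 (f : Frame T Y n S A) (tab : OrdDiv.OrderTable.{u}) (hS : IsKnownSimple' S) {p : ℕ}
    (hp : p.Prime) (hp5 : 5 ≤ p) (h : IsLieTypeChar p T) : Goal Y A f.conj_mem := by
  by_cases hpY : p ∣ Nat.card Y
  · exact (f.lieDvd hp h hpY).elim
  · exact f.lie5' tab hS hp hp5 hpY h

end Cfsg.Agent.H324.Hall
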