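import Cfsg.Agent.H324.Hall.Frame

/-!
# The conclusion of `PartB` from a model of the simple group
-/

set_option autoImplicit false
set_option linter.unusedSectionVars false

open Module Cfsg

universe u v

namespace Cfsg.Agent.H324.Hall

/-- `|Out X| ≤ o` -/
def OutLe (X : Type*) [Group X] (o : ℕ) : Prop := (MulAut.conj : X →* MulAut X).range.index ≤ o

theorem OutLe.mono {X : Type*} [Group X] {o o' : ℕ} (h : OutLe X o) (ho : o ≤ o') : OutLe X o' := le_trans h ho

theorem OutLe.congr {T X : Type*} [Group T] [Group X] (e : T ≃* X) {o : ℕ} (h : OutLe X o) : OutLe T o := by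
  unfold OutLe at h ⊢
  have h1 : (MulAut.conj : T →* MulAut T).range =
      ((MulAut.conj : X →* MulAut X).range).comap (MulAut.congr e).toMonoidHom := by
    ext φ
    rw [Subgroup.mem_comap]
    constructor
    · rintro ⟨t, rfl⟩
      refine ⟨e t, ?_⟩
      ext x
      simp [MulAut.congr]
    · rintro ⟨x, hx⟩
      refine ⟨e.symm x, ?_⟩
      ext t
      have h2 := congrArg (fun ψ : MulAut X => e.symm (ψ (e t))) hx
      simp [MulAut.congr] at h2
      simpa using h2
  rw [h1, Subgroup.index_comap_of_surjective _ (MulAut.congr e).surjective]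
  exact h

theorem outLe_of_card {X : Type*} [Group X] [Finite X] [IsSimpleGroup X] (hX : ∃ a b : X, a * b ≠ b * a) {o : ℕ}
    (h : Nat.card (MulAut X) = o * Nat.card X) : OutLe X o := by
  have h1 : Nat.card (MulAut.conj : X →* MulAut X).range = Nat.card X :=
    (Nat.card_congr (MonoidHom.ofInjective (conj_injective hX)).toEquiv).symm
  have h2 := Subgroup.card_mul_index (MulAut.conj : X →* MulAut X).range
  rw [h1, h, mul_comm o] at h2
  exact le_of_eq (Nat.eq_of_mul_eq_mul_left Nat.card_pos h2)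

theorem BigDeg.congr {T X : Type*} [Group T] [Group X] (e : T ≃* X) {d : ℕ} (h : BigDeg X d) : BigDeg T d := by
  intro m σ hσ
  refine h m (σ.comp e.symm.toMonoidHom) fun h1 => hσ ?_
  ext1 t
  have h2 := DFunLike.congr_fun h1 (e t)
  simpa using h2

section

variable {T : Type u} [Group T] [Finite T] [IsSimpleGroup T] {Y : Subgroup T} {n : ℕ} {S : Type u} [Group S]
  [IsSimpleGroup S] {A : Subgroup (MulAut T)}

/-- The conclusion from a linear representation of a model `X` of `T`. -/
theorem Frame.goal_of_model (f : Frame T Y n S A) {X : Type v} [Group X] (e : T ≃* X) {p : ℕ} (hp : p.Prime)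
    (hpY : ¬ p ∣ Nat.card Y) {F : Type*} [Field F] [Finite F] [CharP F p] {k : ℕ}
    (φ : X →* Matrix.GeneralLinearGroup (Fin k) F) (hφ : φ ≠ 1) {o : ℕ} (ho : OutLe X o) (hb : BigDeg X (o * k)) :
    Goal Y A f.conj_mem := by
  refine goal_of_linear f.nc f.ne_bot f.of_conj_mem hp hpY (φ.comp e.toMonoidHom) ?_ (ho.congr e) (hb.congr e)
  intro h
  apply hφ
  ext1 x
  have h1 := DFunLike.congr_fun h (e.symm x)
  simpa using h1

/-- The version with a representation on a vector space. -/
theorem Frame.goal_of_rep (f : Frame T Y n S A) {X : Type v} [Group X] (e : T ≃* X) {p : ℕ} (hp : p.Prime)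
    (hpY : ¬ p ∣ Nat.card Y) {F : Type*} [Field F] [Finite F] [CharP F p] {V : Type*} [AddCommGroup V] [Module F V]
    [FiniteDimensional F V] (φ : Representation F X V) (hφ : ∃ x, φ x ≠ 1) {o : ℕ} (ho : OutLe X o)
    (hb : BigDeg X (o * finrank F V)) : Goal Y A f.conj_mem := by
  obtain ⟨g, hg⟩ := exists_gl φ
  refine f.goal_of_model e hp hpY g ?_ ho hb
  intro h
  obtain ⟨x, hx⟩ := hφ
  apply hx
  rw [← hg, h]
  rfl

theorem Frame.goal_of_action (f : Frame T Y n S A) {X : Type*} [Finite X] (a : A →* Equiv.Perm X)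
    (hy : ∃ (y : T) (hy : y ∈ Y), a ⟨MulAut.conj y, f.conj_mem y hy⟩ ≠ 1) (hb : BigDeg T (Nat.card X - 1)) :
    Goal Y A f.conj_mem := by
  classical
  have : Fintype X := Fintype.ofFinite X
  obtain ⟨y, hyY, hy1⟩ := hy
  let V : Submodule ℂ (X → ℂ) := LinearMap.ker (∑ x, LinearMap.proj x : (X → ℂ) →ₗ[ℂ] ℂ)
  have hV : ∀ v : X → ℂ, v ∈ V ↔ ∑ x, v x = 0 := by
    intro v
    rw [LinearMap.mem_ker, LinearMap.sum_apply]
    rfl
  have hfin : finrank ℂ V ≤ Nat.card X - 1 := by
    have h1 : V ≠ ⊤ := by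
      intro h
      obtain ⟨x, -⟩ : ∃ x, a ⟨MulAut.conj y, f.conj_mem y hyY⟩ x ≠ x := by
        by_contra hcon
        push Not at hcon
        exact hy1 (Equiv.ext hcon)
      have h2 : (Pi.single x 1 : X → ℂ) ∈ V := by rw [h]; trivial
      rw [hV] at h2
      simp at h2
    have h2 := Submodule.finrank_lt h1
    rw [Module.finrank_fintype_fun_eq_card] at h2
    rw [Nat.card_eq_fintype_card]
    omega
  let ρ : Representation ℂ A V :=
    { toFun := fun g =>
        { toFun := fun v => ⟨fun x => v.1 ((a g)⁻¹ x), by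
            have := v.2
            rw [hV] at this ⊢
            rw [← this]
            exact Equiv.sum_comp (a g)⁻¹ v.1⟩
          map_add' := fun _ _ => rfl
          map_smul' := fun _ _ => rfl }
      map_one' := by
        ext v x
        simp
      map_mul' := fun g h => by
        ext v x
        simp [mul_inv_rev] }
  obtain ⟨g, hg⟩ := exists_gl ρ
  refine ⟨finrank ℂ V, g, ⟨y, hyY, ?_⟩, fun m σ hσ => lt_of_le_of_lt hfin (hb m σ hσ)⟩
  rw [Ne, hg]
  intro h
  apply hy1
  ext x
  by_contra hne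
  set b := a ⟨MulAut.conj y, f.conj_mem y hyY⟩ with hb'
  have hne' : b x ≠ x := hne
  let v : X → ℂ := Pi.single (b x) 1 - Pi.single x 1
  have hv : v ∈ V := by
    rw [hV]
    simp [v]
  by_cases hx2 : b (b x) = x
  · have h1 := congrFun (congrArg Subtype.val (LinearMap.congr_fun h ⟨v, hv⟩)) x
    have h2 : v (b⁻¹ x) = v x := h1
    have h3 : b⁻¹ x = b x := by rw [Equiv.Perm.inv_eq_iff_eq]; exact hx2.symm
    rw [h3] at h2
    simp [v, hne', Ne.symm hne'] at h2
    norm_num at h2
  · have h1 := congrFun (congrArg Subtype.val (LinearMap.congr_fun h ⟨v, hv⟩)) (b (b x))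
    have h2 : v (b⁻¹ (b (b x))) = v (b (b x)) := h1
    rw [show b⁻¹ (b (b x)) = b x from b.symm_apply_apply (b x)] at h2
    have h3 : b (b x) ≠ b x := fun h' => hne' (b.injective h')
    simp [v, hne', h3, hx2] at h2

end

end Cfsg.Agent.H324.Hall
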